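import Cfsg.Agent.H424.Spr.Two
import Cfsg.Agent.H375.O8.TypeA_m3
import Cfsg.Agent.H16.PSp4.Bridge
import Cfsg.Agent.S0270
import Cfsg.Agent.S5824
import Cfsg.Agent.H981.Cov.Ten_m3
import Cfsg.Agent.H688.Cov.OMinusFinal_m3
import Cfsg.Agent.H852.USixElts
import Cfsg.Agent.ClassicalGeometry.PSUAutMain
import Cfsg.Agent.ClassicalGeometry.HermOrtho
import Cfsg.Agent.S0283
import Cfsg.Agent.FastGrp
import Cfsg.Agent.Prune
set_option linter.all false
prune_inst 0x7ffdfdfff9fc7ddeffff7e7ffefddffdfdbb7fffefdff9fbffec69ff0fdf4b8ec9e5abadefeb12fe1ff6629410f87bd3ffffeeffea6fdc7ffffd5ff45ffbffdffdf7bd08519e8cb41fbe2fffe3f0778e7f3fffffffffffffffffffffffffffbeffffffffffff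
open scoped Cfsg.Agent.FastGrp

-- part: H842/Spr/Sp
section
/-!
# S3938: `PSp_2m(q)`, `s = neg (m - 1) + J2`

`spr_of_spaces` : `y ∈ Sp_2m(q)` of prime order `r` (`q` of order `n ≥ 3` modulo `r`) with a fixed space of dimension 2;
if every maximal subgroup through `y` which contains a transvection stabilises a line or a nondegenerate plane, then
`PSp_2m(q)` satisfies `Spr`.
-/

set_option autoImplicit false
set_option linter.unusedSectionVars false

namespace Cfsg.Agent.H842.Spr

open Cfsg Cfsg.Geo Matrix Module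
open Cfsg.Agent.ClassicalGeometry.SympBasic Cfsg.Agent.H876 Cfsg.Agent.H931
open Cfsg.Agent.H262.El
open Cfsg.Agent.H248.Cov
open Cfsg.Agent.H424.Spr (Spr spr_of_two_up)
open scoped MatrixGroups

universe u

section

variable {F : Type u} [Field F] {m : ℕ}

theorem mem_stab {ι : Type} [Fintype ι] [DecidableEq ι] {W : Submodule F (ι → F)} {g : GL ι F}
    (h : g ∈ subspaceStabilizer W) : ∀ v ∈ W, (g : Matrix ι ι F) *ᵥ v ∈ W := fun v hv =>
  (Cfsg.Agent.H918.mem_subspaceStabilizer.1 h v).1 hv

theorem le_stab {ι : Type} [Fintype ι] [DecidableEq ι] {W : Submodule F (ι → F)} {K : Subgroup (GL ι F)}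
    (h : ∀ g ∈ K, ∀ v ∈ W, (g : Matrix ι ι F) *ᵥ v ∈ W) : K ≤ subspaceStabilizer W := by
  intro g hg
  refine Cfsg.Agent.H918.mem_subspaceStabilizer.2 fun v => ⟨h g hg v, fun hv => ?_⟩
  have h1 := h g⁻¹ (K.inv_mem hg) _ hv
  rwa [Matrix.mulVec_mulVec, ← Units.val_mul, inv_mul_cancel, Units.val_one, Matrix.one_mulVec] at h1

/-- the transvection `tGL v 1` stabilises `W`: `v ∈ W` or `W ≤ v^⊥` -/
theorem mem_or_of_tGL {v : Fin m ⊕ Fin m → F} {W : Submodule F (Fin m ⊕ Fin m → F)}
    (h : tGL v (1 : F) ∈ subspaceStabilizer W) {w : Fin m ⊕ Fin m → F} (hw : w ∈ W) :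
    v ∈ W ∨ sympForm m F w v = 0 := by
  by_cases h0 : sympForm m F w v = 0
  · exact Or.inr h0
  · left
    have h1 := mem_stab h w hw
    rw [tGL_mulVec, one_mul] at h1
    have h2 := W.sub_mem h1 hw
    rw [add_sub_cancel_left] at h2
    exact (W.smul_mem_iff h0).1 h2

/-- the transvections of vectors of `W` stabilise `W` -/
theorem tGL_mem_stab {v : Fin m ⊕ Fin m → F} {W : Submodule F (Fin m ⊕ Fin m → F)} (hv : v ∈ W) (c : F) :
    tGL v c ∈ subspaceStabilizer W := by
  refine Cfsg.Agent.H918.mem_subspaceStabilizer.2 fun x => ?_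
  rw [tGL_mulVec]
  exact (W.add_mem_iff_left (W.smul_mem _ hv)).symm

theorem mem_stab_fixS {ι : Type} [Fintype ι] [DecidableEq ι] (y : GL ι F) :
    y ∈ subspaceStabilizer (fixS y) := by
  refine Cfsg.Agent.H918.mem_subspaceStabilizer.2 fun x => ?_
  constructor
  · intro hx
    rwa [mem_fixS.1 hx]
  · intro hx
    rw [mem_fixS] at hx ⊢
    have h1 := congrArg (fun v => ((y⁻¹ : GL ι F) : Matrix ι ι F) *ᵥ v) hx
    simp only [Matrix.mulVec_mulVec] at h1
    rwa [← mul_assoc, ← Units.val_mul, inv_mul_cancel, Units.val_one, Matrix.one_mulVec, one_mul] at h1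

/-- central elements of `Sp` stabilise all subspaces -/
theorem center_stab (W : Submodule F (Fin m ⊕ Fin m → F)) :
    Subgroup.center (spGL m F) ≤ (subspaceStabilizer W).subgroupOf (spGL m F) := by
  have h0 : ((Subgroup.center (spGL m F)).map (spGL m F).subtype) ≤ subspaceStabilizer W := by
    apply le_stab
    rintro _ ⟨z, hz, rfl⟩ v hv
    by_cases hv0 : v = 0
    · rw [hv0, Matrix.mulVec_zero]
      exact W.zero_mem
    obtain ⟨x, hx⟩ : ∃ x, sympForm m F x v ≠ 0 := by
      by_contra hcon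
      push Not at hcon
      exact hv0 (eq_zero_of_forall_sympForm_left hcon)
    have h1 := (Subgroup.mem_center_iff.1 hz) ⟨tGL v 1, tGL_mem _ _⟩
    have h2 := congrArg (fun g : spGL m F => (((g : GL (Fin m ⊕ Fin m) F) : Matrix (Fin m ⊕ Fin m) (Fin m ⊕ Fin m) F)) *ᵥ x) h1
    have h3 : ((tGL v (1 : F) : GL (Fin m ⊕ Fin m) F) : Matrix (Fin m ⊕ Fin m) (Fin m ⊕ Fin m) F) *ᵥ
        (((z : GL (Fin m ⊕ Fin m) F) : Matrix (Fin m ⊕ Fin m) (Fin m ⊕ Fin m) F) *ᵥ x) =
        ((z : GL (Fin m ⊕ Fin m) F) : Matrix (Fin m ⊕ Fin m) (Fin m ⊕ Fin m) F) *ᵥ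
        (((tGL v (1 : F) : GL (Fin m ⊕ Fin m) F) : Matrix (Fin m ⊕ Fin m) (Fin m ⊕ Fin m) F) *ᵥ x) := by
      rw [Matrix.mulVec_mulVec, Matrix.mulVec_mulVec]
      exact h2
    rw [tGL_mulVec, tGL_mulVec, Matrix.mulVec_add, Matrix.mulVec_smul, one_mul, one_mul] at h3
    have h4 := add_left_cancel h3
    have h5 : ((z : GL (Fin m ⊕ Fin m) F) : Matrix (Fin m ⊕ Fin m) (Fin m ⊕ Fin m) F) *ᵥ v =
        (sympForm m F x v)⁻¹ • (sympForm m F (((z : GL (Fin m ⊕ Fin m) F) : Matrix (Fin m ⊕ Fin m) (Fin m ⊕ Fin m) F) *ᵥ x) v • v) := by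
      rw [h4, smul_smul, inv_mul_cancel₀ hx, one_smul]
    change ((z : GL (Fin m ⊕ Fin m) F) : Matrix (Fin m ⊕ Fin m) (Fin m ⊕ Fin m) F) *ᵥ v ∈ W
    rw [h5]
    exact W.smul_mem _ (W.smul_mem _ hv)
  intro z hz
  exact Subgroup.mem_subgroupOf.2 (h0 ⟨z, hz, rfl⟩)

/-- coatoms of `Sp` as subgroups of `GL` -/
theorem maxIn_of_coatom {G : Type*} [Group G] {S : Subgroup G} {H : Subgroup S} (h : IsCoatom H) :
    IsMaximalIn S (H.map S.subtype) := by
  have hle : H.map S.subtype ≤ S := by
    rintro x ⟨y, -, rfl⟩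
    exact y.2
  refine ⟨lt_of_le_of_ne hle ?_, ?_⟩
  · intro he
    apply h.1
    rw [eq_top_iff]
    intro x _
    have : (x : G) ∈ H.map S.subtype := by rw [he]; exact x.2
    obtain ⟨y, hy, hyx⟩ := this
    rwa [← Subtype.ext hyx]
  · intro M h1 h2
    have h3 : H ≤ M.subgroupOf S := by
      intro x hx
      exact Subgroup.mem_subgroupOf.2 (h1 ⟨x, hx, rfl⟩)
    have h4 : (M.subgroupOf S).map S.subtype = M := by
      rw [Subgroup.subgroupOf_map_subtype, inf_eq_left]
      exact h2
    rcases eq_or_lt_of_le h3 with h5 | h5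
    · left
      rw [← h4, ← h5]
    · right
      have h6 := h.2 _ h5
      rw [← h4, h6]
      ext x
      constructor
      · rintro ⟨y, -, rfl⟩
        exact y.2
      · intro hx
        exact ⟨⟨x, hx⟩, trivial, rfl⟩

theorem nonab [Fintype F] (hm : 3 ≤ m) : ∃ x y : PSp m F, x * y ≠ y * x := by
  have hs : IsSimpleGroup (PSp m F) := Cfsg.Agent.S0270.result m (by omega) (fun h => absurd h (by omega))
  by_contra hcon
  push Not at hcon
  have h1 := Cfsg.Agent.H16.PSp4.spGL_perfect (m := m) (F := F) (Or.inl hm)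
  have h2 : (commutator (spGL m F)).map (Cfsg.Agent.H16.PSp4.prj m F) = ⊥ := by
    rw [commutator_def, Subgroup.map_commutator, Subgroup.commutator_eq_bot_iff_le_centralizer]
    intro x _
    rw [Subgroup.mem_centralizer_iff]
    intro y _
    exact hcon y x
  rw [h1, Subgroup.map_top_of_surjective _ Cfsg.Agent.H16.PSp4.prj_surj] at h2
  exact top_ne_bot h2

end

section Main

variable {F : Type u} [Field F] [Fintype F] {m : ℕ}

/-- in a nondegenerate plane, the vectors orthogonal to `v` are the multiples of `v` -/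
theorem mem_span_of_perp {U : Submodule F (Fin m ⊕ Fin m → F)} (hU : finrank F U = 2)
    (hnd : IsNondegenerateOn (sympForm m F) U) {v w : Fin m ⊕ Fin m → F} (hv : v ∈ U) (hv0 : v ≠ 0) (hw : w ∈ U)
    (h : sympForm m F w v = 0) : w ∈ Submodule.span F {v} := by
  by_contra hcon
  -- `U = span {v, w}`
  have hli : LinearIndependent F ![v, w] := by
    rw [LinearIndependent.pair_iff' hv0]
    intro a ha
    exact hcon (Submodule.mem_span_singleton.2 ⟨a, ha⟩)
  have h1 : Submodule.span F (Set.range ![v, w]) = U := by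
    apply Submodule.eq_of_le_of_finrank_eq
    · rw [Submodule.span_le]
      rintro _ ⟨i, rfl⟩
      fin_cases i
      · exact hv
      · exact hw
    · rw [finrank_span_eq_card hli, hU, Fintype.card_fin]
  obtain ⟨⟨x, hx, hxv⟩, -⟩ := hnd v hv hv0
  apply hxv
  rw [← h1, Matrix.range_cons, Matrix.range_cons, Matrix.range_empty, Set.union_empty,
    Set.singleton_union, Submodule.mem_span_pair] at hx
  obtain ⟨a, b, rfl⟩ := hx
  rw [sympForm_add_left, sympForm_smul_left, sympForm_smul_left, sympForm_self, h, mul_zero, mul_zero, add_zero]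

/-- **`s = neg (m - 1) + J2` in `PSp_2m(q)`** -/
theorem spr_of_spaces (hm : 3 ≤ m) {r n : ℕ} (h : Od (Fintype.card F) n r) (hn : 3 ≤ n)
    {y : GL (Fin m ⊕ Fin m) F} (hyS : y ∈ spGL m F) (hyr : y ^ r = 1) (hfix : finrank F (fixS y) = 2)
    (hB : ∀ M : Subgroup (GL (Fin m ⊕ Fin m) F), IsMaximalIn (spGL m F) M → y ∈ M → (∃ x ∈ M, IsTv x) →
      ∃ W : Submodule F (Fin m ⊕ Fin m → F), W ≠ ⊥ ∧ finrank F W ≤ 2 ∧
        (finrank F W = 1 ∨ IsNondegenerateOn (sympForm m F) W) ∧ M ≤ subspaceStabilizer W) : Spr (PSp m F) := by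
  obtain ⟨p, hchar⟩ := CharP.exists F
  have hp : p.Prime := CharP.char_is_prime F p
  have hpf : Fact p.Prime := ⟨hp⟩
  have hrF := cast_ne_zero_of_od h
  have hs : IsSimpleGroup (PSp m F) := Cfsg.Agent.S0270.result m (by omega) (fun h => absurd h (by omega))
  have hfin : Finite (GL (Fin m ⊕ Fin m) F) := inferInstance
  have hfin2 : Finite (PSp m F) := Finite.of_surjective _ Cfsg.Agent.H16.PSp4.prj_surj
  set U : Submodule F (Fin m ⊕ Fin m → F) := fixS y with hU
  have hnd : IsNondegenerateOn (sympForm m F) U := nd_fixS hyS hrF hyr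
  have hUb : U ≠ ⊥ := by
    intro h0
    rw [h0, finrank_bot] at hfix
    omega
  obtain ⟨v, hv, hv0⟩ := (Submodule.ne_bot_iff _).1 hUb
  obtain ⟨⟨v', hv', hvv⟩, -⟩ := hnd v hv hv0
  have htv : IsTv (tGL v (1 : F)) := tGL_isTv hv0 one_ne_zero
  -- `s`
  let y' : spGL m F := ⟨y, hyS⟩
  let τ : spGL m F := ⟨tGL v 1, tGL_mem _ _⟩
  have hyr' : y' ^ r = 1 := Subtype.ext hyr
  have hτp : τ ^ p = 1 := Subtype.ext htv.pow_char
  have hcomm : Commute y' τ := by
    have h1 : y * tGL v 1 = tGL v (1 : F) * y := by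
      have h2 : (y : Matrix (Fin m ⊕ Fin m) (Fin m ⊕ Fin m) F) *ᵥ v = v := mem_fixS.1 hv
      have h3 := mul_sympTransvection (A := (y : Matrix (Fin m ⊕ Fin m) (Fin m ⊕ Fin m) F))
        (mem_symplecticGroup_iff.2 (fun u v => hyS u v)) v (1 : F)
      rw [h2] at h3
      exact Units.ext h3
    exact Subtype.ext h1
  have hrp : Nat.Coprime p r := by
    rw [Nat.coprime_primes hp h.prime]
    rintro rfl
    exact hrF (CharP.cast_eq_zero F p)
  have key : ∀ K : Subgroup (spGL m F), y' * τ ∈ K → y' ∈ K ∧ τ ∈ K := by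
    intro K hK
    have h1 : (y' * τ) ^ p = y' ^ p := by rw [hcomm.mul_pow, hτp, mul_one]
    have h2 : y' ^ p ∈ K := by
      rw [← h1]
      exact K.pow_mem hK p
    have h3 : y' ∈ K := by
      have h4 : y' ∈ Subgroup.zpowers (y' ^ p) := by
        rw [mem_zpowers_pow_iff]
        exact Nat.Coprime.coprime_dvd_right (orderOf_dvd_of_pow_eq_one hyr') hrp
      exact (Subgroup.zpowers_le.2 h2) h4
    refine ⟨h3, ?_⟩
    have h4 := K.mul_mem (K.inv_mem h3) hK
    rwa [inv_mul_cancel_left] at h4
  refine spr_of_two_up (L := PSp m F) (nonab hm) (Cfsg.Agent.H16.PSp4.prj m F) Cfsg.Agent.H16.PSp4.prj_surj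
    (s := y' * τ)
    (M₁ := (subspaceStabilizer (Submodule.span F {v})).subgroupOf (spGL m F))
    (M₂ := (subspaceStabilizer U).subgroupOf (spGL m F))
    (Cfsg.Agent.H16.PSp4.prj_ker.trans (center_stab _)) (Cfsg.Agent.H16.PSp4.prj_ker.trans (center_stab _)) ?_ ?_ ?_ ?_
  · intro htop
    rw [Subgroup.subgroupOf_eq_top] at htop
    rcases mem_or_of_tGL (htop (tGL_mem v' 1)) (Submodule.mem_span_singleton_self v) with h1 | h1
    · obtain ⟨c, rfl⟩ := Submodule.mem_span_singleton.1 h1
      rw [sympForm_smul_left, sympForm_self, mul_zero] at hvv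
      exact hvv rfl
    · apply hvv
      rw [sympForm_swap, h1, neg_zero]
  · intro htop
    rw [Subgroup.subgroupOf_eq_top] at htop
    have hnt : U ≠ ⊤ := by
      intro h0
      rw [h0, finrank_top, Module.finrank_fintype_fun_eq_card] at hfix
      simp at hfix
      omega
    obtain ⟨z, hz⟩ : ∃ z, z ∉ U := by
      by_contra hcon
      push Not at hcon
      exact hnt (eq_top_iff.2 fun z _ => hcon z)
    by_cases hzv : sympForm m F v z = 0
    · rcases mem_or_of_tGL (htop (tGL_mem (v' + z) 1)) hv with h1 | h1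
      · exact hz ((U.add_mem_iff_right hv').1 h1)
      · rw [sympForm_add_right, hzv, add_zero] at h1
        apply hvv
        rw [sympForm_swap, h1, neg_zero]
    · rcases mem_or_of_tGL (htop (tGL_mem z 1)) hv with h1 | h1
      · exact hz h1
      · exact hzv h1
  · intro g hg
    exfalso
    set x₀ : Fin m ⊕ Fin m → F := ((g : GL (Fin m ⊕ Fin m) F) : Matrix (Fin m ⊕ Fin m) (Fin m ⊕ Fin m) F) *ᵥ v with hx₀
    have hx0 : x₀ ≠ 0 := by
      intro h0
      apply hv0
      have h1 := congrArg (fun v => (((g : GL (Fin m ⊕ Fin m) F)⁻¹ : GL (Fin m ⊕ Fin m) F) :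
        Matrix (Fin m ⊕ Fin m) (Fin m ⊕ Fin m) F) *ᵥ v) h0
      rwa [hx₀, Matrix.mulVec_mulVec, ← Units.val_mul, inv_mul_cancel, Units.val_one, Matrix.one_mulVec,
        Matrix.mulVec_zero] at h1
    -- `⟨g v⟩` is stable under `M₂`
    have hst : ∀ x ∈ subspaceStabilizer U, x ∈ spGL m F →
        (x : Matrix (Fin m ⊕ Fin m) (Fin m ⊕ Fin m) F) *ᵥ x₀ ∈ Submodule.span F {x₀} := by
      intro x hx hxS
      have h1 : (⟨x, hxS⟩ : spGL m F) ∈ ((subspaceStabilizer (Submodule.span F {v})).subgroupOf (spGL m F)).map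
          (MulAut.conj g).toMonoidHom := by
        rw [hg]
        exact Subgroup.mem_subgroupOf.2 hx
      obtain ⟨z, hz, hzx⟩ := h1
      have hzx' : (g : GL (Fin m ⊕ Fin m) F) * z * (g : GL (Fin m ⊕ Fin m) F)⁻¹ = x := congrArg Subtype.val hzx
      obtain ⟨c, hc⟩ := Submodule.mem_span_singleton.1
        (mem_stab (Subgroup.mem_subgroupOf.1 hz) v (Submodule.mem_span_singleton_self v))
      have h2 : (x : Matrix (Fin m ⊕ Fin m) (Fin m ⊕ Fin m) F) *ᵥ x₀ = c • x₀ := by
        rw [hx₀, Matrix.mulVec_mulVec, ← Units.val_mul, ← hzx', inv_mul_cancel_right, Units.val_mul,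
          ← Matrix.mulVec_mulVec, ← hc, Matrix.mulVec_smul]
      rw [h2]
      exact Submodule.smul_mem _ _ (Submodule.mem_span_singleton_self _)
    have hxU : x₀ ∈ U := by
      have h1 : Submodule.span F {x₀} ≤ fixS y := by
        refine le_fixS h hyr ?_ ?_
        · intro w hw
          obtain ⟨c, rfl⟩ := Submodule.mem_span_singleton.1 hw
          rw [Matrix.mulVec_smul]
          exact Submodule.smul_mem _ _ (hst y (mem_stab_fixS y) hyS)
        · rw [finrank_span_singleton hx0]
          omega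
      exact h1 (Submodule.mem_span_singleton_self _)
    obtain ⟨-, ⟨u, hu, hux⟩⟩ := hnd x₀ hxU hx0
    have h1 := hst _ (tGL_mem_stab hu 1) (tGL_mem u 1)
    rw [tGL_mulVec, one_mul] at h1
    have h2 := Submodule.sub_mem _ h1 (Submodule.mem_span_singleton_self x₀)
    rw [add_sub_cancel_left] at h2
    obtain ⟨c, rfl⟩ := Submodule.mem_span_singleton.1 ((Submodule.smul_mem_iff _ hux).1 h2)
    apply hux
    rw [sympForm_smul_right, sympForm_self, mul_zero]
  · intro K _ hK hKt
    obtain ⟨H, hH, hKH⟩ := (eq_top_or_exists_le_coatom K).resolve_left hKt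
    obtain ⟨k1, k2⟩ := key K hK
    obtain ⟨W, w1, w2, w3, w4⟩ := hB (H.map (spGL m F).subtype) (maxIn_of_coatom hH) ⟨y', hKH k1, rfl⟩
      ⟨_, ⟨τ, hKH k2, rfl⟩, htv⟩
    have hKW : K ≤ (subspaceStabilizer W).subgroupOf (spGL m F) := fun x hx =>
      Subgroup.mem_subgroupOf.2 (w4 ⟨x, hKH hx, rfl⟩)
    have hWU : W ≤ U := le_fixS h hyr (mem_stab (Subgroup.mem_subgroupOf.1 (hKW k1))) (by omega)
    by_cases hd : finrank F W = 2
    · right
      have h1 : W = U := Submodule.eq_of_le_of_finrank_eq hWU (by rw [hd, hfix])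
      rwa [← h1]
    · left
      have h0 : finrank F W ≠ 0 := fun h5 => w1 (Submodule.finrank_eq_zero.1 h5)
      have hd1 : finrank F W = 1 := by omega
      obtain ⟨w, hw, hw0⟩ := (Submodule.ne_bot_iff _).1 w1
      have hvW : v ∈ W := by
        rcases mem_or_of_tGL (Subgroup.mem_subgroupOf.1 (hKW k2)) hw with h1 | h1
        · exact h1
        · obtain ⟨c, rfl⟩ := Submodule.mem_span_singleton.1 (mem_span_of_perp hfix hnd hv hv0 (hWU hw) h1)
          have hc : c ≠ 0 := by
            rintro rfl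
            exact hw0 (zero_smul _ _)
          exact (W.smul_mem_iff hc).1 hw
      have h1 : Submodule.span F {v} = W := by
        apply Submodule.eq_of_le_of_finrank_eq
        · rw [Submodule.span_singleton_le_iff_mem]
          exact hvW
        · rw [finrank_span_singleton hv0, hd1]
      rwa [h1]

end Main

end Cfsg.Agent.H842.Spr
end

-- part: H842/Spr/Sp8
section
/-!
# S3938: `PSp_8(q)`, `q` odd

`spr_of_res` : `Spr (PSp 4 F)`, `q` odd, from S5823 and (as a hypothesis) S5824.
-/

set_option autoImplicit false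
set_option linter.unusedSectionVars false

namespace Cfsg.Agent.H842.Spr

open Cfsg Cfsg.Geo Matrix Module
open Cfsg.Agent.H262.El
open Cfsg.Agent.H248.Cov
open Cfsg.Agent.H424.Spr (Spr)
open scoped MatrixGroups

universe u

/-- **`PSp_8(q)`, `q` odd, modulo S5824** -/
theorem spr_of_res {F : Type u} [Field F] [Fintype F] (hodd : Odd (Fintype.card F))
    (h24 : ∀ H : Subgroup (GL (Fin 4 ⊕ Fin 4) F),
      IsMaximalIn (spGL 4 F) H → InSymplecticResidualClass H → Res24 F H) : Spr (PSp 4 F) := by
  obtain ⟨p, hchar⟩ := CharP.exists F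
  have hp : p.Prime := CharP.char_is_prime F p
  have hpf : Fact p.Prime := ⟨hp⟩
  obtain ⟨a, ha, hF⟩ : ∃ a : ℕ, 1 ≤ a ∧ Fintype.card F = p ^ a := by
    obtain ⟨n, -, hn⟩ := FiniteField.card F p
    exact ⟨n, n.pos, hn⟩
  have hp2 : p ≠ 2 := by
    rintro rfl
    rw [hF] at hodd
    rcases Nat.odd_pow_iff (by omega) |>.1 hodd with ⟨k, hk⟩
    omega
  have hι : Fintype.card (Fin 4 ⊕ Fin 4) = 8 := by simp
  obtain ⟨r6, h6⟩ := exists_r6 hp hp2 ha
  have o6 := od_of_pp hF ha (by norm_num) h6
  have f6 := Fact.mk h6.prime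
  have hfin : Finite (GL (Fin 4 ⊕ Fin 4) F) := inferInstance
  obtain ⟨x6, hx6⟩ := exists_prime_orderOf_dvd_card' (G := spGL 4 F) r6
    (dvd_card_spGL (by norm_num) o6 (k := 3) dvd_rfl (by norm_num) (by norm_num))
  have hr : (x6 : GL (Fin 4 ⊕ Fin 4) F) ^ r6 = 1 := by
    rw [← Subgroup.coe_pow, ← hx6, pow_orderOf_eq_one]; rfl
  have h1 : (x6 : GL (Fin 4 ⊕ Fin 4) F) ≠ 1 := by
    intro h1
    have h2 : x6 = 1 := Subtype.ext h1
    rw [h2, orderOf_one] at hx6
    exact h6.prime.one_lt.ne hx6
  refine spr_of_spaces (by norm_num) o6 (by norm_num) x6.2 hr (fixS_eq_two o6 hι hr h1) ?_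
  rintro M hM hyM ⟨t, ht, htt⟩
  rcases classB hp hchar ha hF hodd hp2 h6 h24 hM hyM hr h1 with h | h
  · exact h
  · exact absurd htt (h t ht)

end Cfsg.Agent.H842.Spr
end

-- part: H842/Spr/PSp8
section
/-!
# S3938: the row `PSp_8(q)`, `q` odd
-/

set_option autoImplicit false

namespace Cfsg.Agent.H842.Spr

open Cfsg
open Cfsg.Agent.H424.Spr (Spr)

universe u

/-- **`PSp_8(q)`, `q` odd** -/
theorem spr_psp_four {F : Type u} [Field F] [Fintype F] (hodd : Odd (Fintype.card F)) : Spr (PSp 4 F) :=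
  spr_of_res hodd fun H hH hS => Cfsg.Agent.S5824.result H hH hS

end Cfsg.Agent.H842.Spr
end

-- part: H62/Spr/SUSix
section
/-!
# S3938 (3/2-generation): `PSU_6(q)`, `q ≥ 3` (helper62, task 4834)

`spr_psu_six_of` : hypothesis `R5803 F q` (the text of S5803).  The element `[5] + [1]`: all proper overgroups
stabilise the fixed line.
-/

set_option autoImplicit false
set_option linter.unusedSectionVars false

namespace Cfsg.Agent.H62.Spr

open Cfsg Cfsg.Geo Module Cfsg.Agent.H951 Cfsg.Agent.H251.GeoU Cfsg.Agent.H251.GeoCard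
open Cfsg.Agent.H729.CovU (L L_isom L_injective geo_over_pre)
open Cfsg.Agent.H680.Cov.SU6
open Cfsg.Agent.H424.Spr
open Cfsg.Agent.H494.PSURow (blk blk_injective eq_one_left)
open scoped Matrix MatrixGroups

section st

variable {F : Type*} [Field F] {n q : ℕ}

/-- the stabiliser of a subspace in `PSU_n(q)` -/
def stP (n : ℕ) (F : Type*) [Field F] (q : ℕ) (W : Submodule F (Fin n → F)) : Subgroup (PSU n F q) :=
  ((subspaceStabilizer W).comap (H918.suHom n F q)).map (QuotientGroup.mk' (Subgroup.center (SU n F q)))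

theorem le_stP {M : Subgroup (PSU n F q)} {W : Submodule F (Fin n → F)} (h : pre M ≤ subspaceStabilizer W) :
    M ≤ stP n F q W := by
  intro x hx
  obtain ⟨y, rfl⟩ := QuotientGroup.mk'_surjective _ x
  exact ⟨y, h ⟨y, hx, rfl⟩, rfl⟩

theorem card_stP_dvd [Fintype F] (W : Submodule F (Fin n → F)) :
    Nat.card (stP n F q W) ∣ Nat.card (subspaceStabilizer W ⊓ Cfsg.GU n F q : Subgroup (GL (Fin n) F)) := by
  refine (Subgroup.card_map_dvd _ _).trans ?_
  refine Subgroup.card_dvd_of_injective (((H918.suHom n F q).comp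
    ((subspaceStabilizer W).comap (H918.suHom n F q)).subtype).codRestrict _ ?_) ?_
  · rintro ⟨x, hx⟩
    exact ⟨hx, (H918.suHom_mem x).1⟩
  · intro x y hxy
    apply Subtype.ext
    exact H918.suHom_injective (congrArg Subtype.val hxy)

end st

variable {F : Type} [Field F] [Fintype F] {q : ℕ}

theorem spr_psu_six_of (hF : Fintype.card F = q ^ 2) (hq3 : 3 ≤ q) (hR : R5803 F q)
    [IsSimpleGroup (PSU 6 F q)] [Finite (PSU 6 F q)] (hna : ∃ x y : PSU 6 F q, x * y ≠ y * x) :
    Spr (PSU 6 F q) := by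
  classical
  obtain ⟨p, f, hp, hf, hqp, hchar⟩ := H269.U5.exists_base hF
  obtain ⟨u, hPN, x, m, hx, hx1, -⟩ := H269.U5.exists_A hF hq3 hp hf hqp
  have hu := hPN.pr
  have hfu := Fact.mk hu
  have huo : orderOf (-(q : ZMod u)) = 5 := hPN.ord_neg (d := 5) rfl ⟨2, rfl⟩
  have hu11 : 11 ≤ u := hPN.ger
  have huf' : ¬ u ∣ f := fun h => by
    have h1 := Nat.le_of_dvd hf h
    have h2 := hPN.ge
    omega
  have huiff : ∀ k, u ∣ p ^ k - 1 ↔ 2 * 5 * f ∣ k := fun k => by rw [hPN.iff]
  obtain ⟨v, hv, hvo, hvf, -, -⟩ := H149.NegPrime.exists_neg_prime (i := 6) hp hqp hf (by norm_num) (by norm_num)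
  have hfv := Fact.mk hv
  have huq := not_dvd_of_ord hu huo (by norm_num)
  have hru := natCast_ne hF hu huq
  have hu5 : orderOf ((q ^ 2 : ℕ) : ZMod u) = 5 := ord_sq_odd huo ⟨2, rfl⟩
  have hqq := Nat.one_le_pow 2 q (LieClassical.HermBasic.q_pos hF)
  have huF : ¬ u ∣ Nat.card F - 1 := by
    intro h1
    have h2 : Div u (q ^ 2) 1 := div_one le_rfl (by rwa [← nat_card_eq hF])
    have h3 := ord_le_of_div hqq h2
    omega
  -- the element
  set s : SU (5 + 1) F q := blk 5 1 F q (x, 1) with hs
  set a : SU (5 + 1) F q := s ^ (u ^ m) with ha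
  let π := QuotientGroup.mk' (Subgroup.center (SU (5 + 1) F q))
  have hso : orderOf s = u ^ (m + 1) := by
    rw [← hx, hs, orderOf_injective _ (blk_injective _ _ _), Prod.orderOf_mk, orderOf_one, Nat.lcm_one_right]
  have hau : a ^ u = 1 := by
    rw [ha, ← pow_mul, ← pow_succ, ← hso, pow_orderOf_eq_one]
  have hax : a = blk 5 1 F q (x ^ (u ^ m), 1) := by rw [ha, hs, ← map_pow, Prod.pow_mk, one_pow]
  have hx0 : x ^ (u ^ m) ≠ 1 := by
    intro h
    have h1 := orderOf_dvd_of_pow_eq_one h
    rw [hx] at h1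
    have h2 := (Nat.pow_dvd_pow_iff_le_right hu.one_lt).1 h1
    omega
  have ha1 : a ≠ 1 := by
    intro h
    apply hx0
    have h1 : ((x ^ (u ^ m), 1) : SU 5 F q × SU 1 F q) = 1 := by
      apply blk_injective 5 1 q
      rw [← hax, h, map_one]
    exact congrArg Prod.fst h1
  have hac : a ∉ Subgroup.center (SU (5 + 1) F q) := by
    rw [hax]
    intro h
    exact hx0 (eq_one_left hF (by norm_num) (by norm_num) h)
  have hLa : (L (5 + 1) F q a) ^ u = 1 := by rw [← map_pow, hau, map_one]
  have hfix1 : finrank F (fx (L (5 + 1) F q a)) = 1 := by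
    have h1 := fix_le hF huq (L_isom a) hLa (fun h => ha1 (L_injective (by rw [h, map_one])))
    rw [huo] at h1
    have h2 := finrank_fx_blk (F := F) (q := q) (x ^ (u ^ m)) (1 : SU 1 F q)
    rw [← hax, L_one_fx, finrank_top, finrank_fintype_fun_eq_card, Fintype.card_fin] at h2
    omega
  -- the only overgroup
  have hfin : Finite (PSU (5 + 1) F q) := inferInstanceAs (Finite (PSU 6 F q))
  have hsim : IsSimpleGroup (PSU (5 + 1) F q) := inferInstanceAs (IsSimpleGroup (PSU 6 F q))
  refine spr_of_one (L := PSU (5 + 1) F q) hna (s := π s) (M := stP (5 + 1) F q (fx (L (5 + 1) F q a))) ?_ ?_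
  · intro htop
    have h1 := card_stP_dvd (F := F) (q := q) (fx (L (5 + 1) F q a))
    rw [htop, Subgroup.card_top] at h1
    have h2 := H149.PGU.dvd_card_psu (n := 5 + 1) hF (by norm_num) hv (by norm_num) (by norm_num) hvo
    exact kill_point hF hv hvo ⟨3, rfl⟩ (by norm_num) hfix1 (h2.trans h1)
  · intro K hsK hK
    obtain ⟨M, hM, hKM⟩ := (eq_top_or_exists_le_coatom K).resolve_left hK
    refine hKM.trans ?_
    have hsM : π s ∈ M := hKM hsK
    have haM : H918.suHom (5 + 1) F q a ∈ pre M := by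
      refine ⟨a, ?_, rfl⟩
      change π a ∈ M
      rw [ha, map_pow]
      exact M.pow_mem hsM _
    have huM : u ∣ Nat.card M := by
      have h1 : orderOf (π a) = u := by
        apply orderOf_eq_prime
        · rw [← map_pow, hau, map_one]
        · intro h2
          exact hac ((QuotientGroup.eq_one_iff _).1 h2)
      have h2 : π a ∈ M := by
        rw [ha, map_pow]
        exact M.pow_mem hsM _
      rw [← h1, ← Subgroup.orderOf_mk (π a) h2]
      exact orderOf_dvd_natCard _
    rcases geo_over_pre (n := 5 + 1) hF hp hqp hf hu huiff huo ⟨2, rfl⟩ (by norm_num) (by norm_num) (by omega) hM.1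
      huM with ⟨W, h1, h2, h3, h4⟩ | ⟨W, h1, h2, h3, h4, h5⟩ | ⟨r, K, h1, h2, h3, h4, h5, h6⟩ | hres
    · exfalso
      apply h1
      rw [← Submodule.finrank_eq_zero (R := F)]
      omega
    · have hWf : W ≤ fx (L (5 + 1) F q a) := by
        refine le_fx hru hLa (inv_of_mem (h5 haM)) ?_
        rw [hF, hu5]
        omega
      have hW0 : finrank F W ≠ 0 := fun h => h1 ((Submodule.finrank_eq_zero (R := F)).1 h)
      have hWe : W = fx (L (5 + 1) F q a) := Submodule.eq_of_le_of_finrank_le hWf (by rw [hfix1]; omega)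
      rw [← hWe]
      exact le_stP h5
    · exfalso
      have h7 := (Nat.prime_dvd_prime_iff_eq h1 Nat.prime_five).1 h4
      subst h7
      norm_num at h3
    · exfalso
      have huM' := huM.trans (card_dvd_pre M)
      -- the order of `s` divides the order of the automorphism group of the core
      have hsM' : H918.suHom (5 + 1) F q s ∈ pre M := ⟨s, hsM, rfl⟩
      have key : ∀ {P : Subgroup (GL (Fin 6) F)} {A : Type} [Group A], IsResidualCore (pre M) P →
          ((P ⧸ (scalars (Fin 6) F).subgroupOf P) ≃* A) → u ^ (m + 1) ∣ Nat.card (MulAut A) := by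
        intro P A _ hP e
        have h1 := H900.SU4.card_dvd_of_core (B := Subgroup.zpowers s) hP
          ((H918.suHom (5 + 1) F q).comp (Subgroup.zpowers s).subtype) (by
            rintro ⟨b, hb⟩
            obtain ⟨k, rfl⟩ := Subgroup.mem_zpowers_iff.1 hb
            change H918.suHom (5 + 1) F q (s ^ k) ∈ pre M
            rw [map_zpow]
            exact (pre M).zpow_mem hsM' k) (by
            rintro ⟨b, hb⟩ hbs
            have hb' : H918.suHom (5 + 1) F q b ∈ scalars (Fin 6) F := hbs
            have h2 : orderOf (H918.suHom (5 + 1) F q b) ∣ Nat.card F - 1 := by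
              rw [← Subgroup.orderOf_mk _ hb']
              exact (orderOf_dvd_natCard _).trans H251.GeoCard.card_scalars_dvd
            rw [orderOf_injective _ H918.suHom_injective] at h2
            have h3 : orderOf b ∣ u ^ (m + 1) := by
              have h5 := orderOf_dvd_natCard (⟨b, hb⟩ : Subgroup.zpowers s)
              rwa [Nat.card_zpowers, hso, Subgroup.orderOf_mk] at h5
            have h4 : orderOf b = 1 := by
              obtain ⟨j, -, hj⟩ := (Nat.dvd_prime_pow hu).1 h3
              rcases Nat.eq_zero_or_pos j with h5 | h5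
              · rw [hj, h5, pow_zero]
              · exact absurd ((dvd_pow_self u h5.ne').trans (by rwa [hj] at h2)) huF
            exact Subtype.ext (orderOf_eq_one_iff.1 h4))
        rwa [Nat.card_zpowers, hso, Nat.card_congr (MulAut.congr e).toEquiv] at h1
      obtain ⟨P, hc, h | h | h | h | h | h⟩ := hR _ (H729.CovU.isMaximalIn_pre hM) hres
      · obtain ⟨⟨e⟩, -⟩ := h
        apply hx1
        rw [hx]
        have h11 : Fact (Nat.Prime 11) := ⟨by norm_num⟩
        have h1 := key hc e
        rw [S0813.result 11 1 le_rfl (by rw [ZMod.card, pow_one]) 2 le_rfl (fun _ => by norm_num), if_pos rfl, one_mul,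
          one_mul, ClassicalGeometry.PSL2Basic.card_PGL2, ZMod.card] at h1
        exact h1.trans (by norm_num)
      · obtain ⟨⟨e⟩, -⟩ := h
        have := aut_a7 hu (by omega) (prime_dvd_aut hu huF hc huM' e)
        omega
      · obtain ⟨⟨K, _, _, hK, ⟨e⟩⟩, -⟩ := h
        have := aut_l34 hu (by omega) hK (prime_dvd_aut hu huF hc huM' e)
        omega
      · obtain ⟨-, h2⟩ := h
        omega
      · obtain ⟨⟨K, _, _, hK, ⟨e⟩⟩, -⟩ := h
        have := aut_u43 hu (by omega) hK (prime_dvd_aut hu huF hc huM' e)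
        omega
      · obtain ⟨⟨e⟩, -⟩ := h
        exact aut_u3 hF hq3 hp hqp hf hu (by omega) huo (by norm_num) huf' (prime_dvd_aut hu huF hc huM' e)

end Cfsg.Agent.H62.Spr
end

-- part: H62/Spr/U62Cert
section
/-!
# S3938 (3/2-generation), `PSU_6(2)`: orbit certificates on the singular vectors (helper62, task 4834)

The 2079 nonzero singular vectors of `F₄⁶` (the vectors of even weight); `tab₁` contains, for every one of them,
a generator that brings it nearer to the vector `f₀`.
-/

set_option autoImplicit false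
set_option maxRecDepth 100000
set_option linter.unusedSimpArgs false

namespace Cfsg.Agent.H62.Spr.U62

open Cfsg Matrix Cfsg.Agent.SporadicA.FieldFour F4 Cfsg.Agent.H852.USixElts

/-- numbers -/
def tn : F4 → ℕ
  | z => 0
  | o => 1
  | w => 2
  | v => 3

def code (a b c d e f : F4) : ℕ := tn a + 4 * tn b + 16 * tn c + 64 * tn d + 256 * tn e + 1024 * tn f

/-- nonzero -/
def nz : F4 → Bool
  | z => false
  | _ => true

/-- odd weight -/
def odd (a b c d e f : F4) : Bool := xor (nz a) (xor (nz b) (xor (nz c) (xor (nz d) (xor (nz e) (nz f)))))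

def X : M6 := !![z,o,w,z,v,z; z,z,z,z,z,v; z,o,w,w,z,z; v,o,o,v,o,z; v,w,v,z,z,z; w,w,o,w,v,z]
def Xi : M6 := !![z,z,z,w,w,v; o,z,o,o,v,v; v,z,v,o,w,o; z,z,v,w,z,v; w,z,z,o,z,w; z,w,z,z,z,z]
def Y : M6 := !![z,z,z,z,w,z; o,z,z,v,z,w; o,w,w,o,z,o; o,z,v,v,z,z; v,v,v,o,z,w; v,w,z,w,z,z]
def Yi : M6 := !![z,o,o,o,w,w; z,z,v,z,w,v; z,z,v,w,w,z; z,w,o,w,o,v; v,z,z,z,z,z; z,v,o,z,v,z]
def Tg : M6 := !![o,z,z,z,z,z; z,z,z,o,z,z; z,z,o,z,z,z; z,o,z,z,z,z; z,z,z,z,o,z; z,z,z,z,z,o]
def Jm : M6 := !![z,o,z,z,z,z; o,z,z,z,z,z; z,z,z,o,z,z; z,z,o,z,z,z; z,z,z,z,z,o; z,z,z,z,o,z]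

def gX (k : F4 → F4 → F4 → F4 → F4 → F4 → Bool) (a b c d e f : F4) : Bool :=
  k (b + w * c + v * e) (v * f) (b + w * c + w * d) (v * a + b + c + v * d + e) (v * a + w * b + v * c) (w * a + w * b + c + w * d + v * e)

def gXi (k : F4 → F4 → F4 → F4 → F4 → F4 → Bool) (a b c d e f : F4) : Bool :=
  k (w * d + w * e + v * f) (a + c + d + v * e + v * f) (v * a + v * c + d + w * e + f) (v * c + w * d + v * f) (w * a + d + w * f) (w * b)

def gY (k : F4 → F4 → F4 → F4 → F4 → F4 → Bool) (a b c d e f : F4) : Bool :=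
  k (w * e) (a + v * d + w * f) (a + w * b + w * c + d + f) (a + v * c + v * d) (v * a + v * b + v * c + d + w * f) (v * a + w * b + w * d)

def gYi (k : F4 → F4 → F4 → F4 → F4 → F4 → Bool) (a b c d e f : F4) : Bool :=
  k (b + c + d + w * e + w * f) (v * c + w * e + v * f) (v * c + w * d + w * e) (w * b + c + w * d + e + v * f) (v * a) (v * b + c + v * e)

def gT (k : F4 → F4 → F4 → F4 → F4 → F4 → Bool) (a b c d e f : F4) : Bool :=
  k (a) (d) (c) (b) (e) (f)

def tab1 : ℕ := 0x342d400032363400363d2c000000002a2121380020312d002914150000000028394040003a1c2600363a2a0000000036000000410000002a00000028323634002d31390035412c003125220000000036263632002c2439002930350000000030342220002d393900262a310000000024000000240000001800000011101d2d00313c3200362a1d003c393800000000322e1a1a002e3634002c3839000000002e313425002024340020392000000000210000002d00000016000000242e38220000000025000000300000002c3d2829000000002e0000003500000028384141000000003100000021000000262d3925002d30390016222900283e1c0000000025393c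200035393a003d303200000000341c312d00150914001528140000000036352c30003a3a2e00221628000000002c0000002d0000003200000025291d31003a3e34002428340039283d00000000361a0e1a003430280036222e00000000363534290041313500383e3800000000290000002c0000003400000036353024003d362d003d2938002c243000000000221a2e1a00301c280038293c000000001e1c112e003938380039251d000000002c0000002000000030000000353e36360000000030000000310000001c1d1d2100000000310000003100000018313030000000002d0000002c000000323c3531002e2236003a362a00393030000000003425352900322621001c2228000000002a381c24001c3020003a3a310000000010303131002d3238002a3a2e00000000300000002c000000120000003a35362e002c20260038213d001c2a360000000006223626003d3034003a312c0000000029302d3900393c2800302a26000000003a0000000d000000350000002935242900221d2900222430002d312500000000363435360035363100403430000000003125342800352521001d2c310000000034000000340000002e00000035302a30000000002400000000000000301c201c0000000016000000280000003634312d0000000036000000350000003a35293100343128003a2a2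e0034242d00000000340000003d0000002c0000003d3a363a0000000020000000390000001925252c00000000350000001e0000002411291600403c3d001e2e3d002c3a2c000000003a000000320000003c000000282a2a41000000003e0000002d0000003539393d000000001800000039000000263a2e2c0018283800312d2c002d242400000000250000003c000000290000003c1e2a1e000000001e0000003a000000382c3839000000002400000020000000213125290028352c00322a2a00303831000000003e343035002425450019241800000000302a2a320038383d002c343800000000341628100034282d002d2a2e000000002c00000034000000250000003831303800311d2c00282534002135250000000034252d310029221d0030222400000000363040340036343500313536000000003100000035000000340000002e30302a002e2a3a0031303100382d320000000030281c220029253500213226000000002a313a3a0024381c00201c3000000000100000003a0000002c000000122e35360026302a0039302d0028393c000000003a361c2a00262c20003d382100000000062c3a310026223600343d300000000029000000290000000d00000035293524000000003a0000003600000035313529000000003000000024000000001c1c20000000003600000016000000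282d3431002d342400283431002e3a2a000000003420203900253134003420240000000021383c390032313c001d362a0000000032392c38001a2e1a00342e36000000002e000000240000002d00000016222e38002a363a0040394000263a1c00000000362c363d0040342d00343236000000002a15291400382121002d2031000000002800000028000000410000002a3432360031262a0020342200392d39000000002422312500392d31002c354100000000363529300032263600392c2400000000300000001100000024000000182d101d00000000260000003100000021252d39000000002c0000002500000030293d2800000000280000002e00000035413841001c283e00392d300029162200000000251d3925002e1c1100383938000000002c302c24002d3d3600383d2900000000223c3829001a1a2e0028301c000000001e000000350000002000000030363e36002822160030352c002e3a3a000000002c323d300020393c003a35390000000034141528002d1c31001415090000000036000000250000002d0000003231291d0038383e002935340035413100000000293d392800343a3e0034242800000000362e3622001a1a0e002834300000000036000000360000002c0000003424353000000000320000002d0000002c313c35000000001c0000003000000031211d1d0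00000001800000031000000313031300030393000362e22002a3a360000000034000000210000002400000020293125000000003c0000003c000000291e1e2a00000000380000001e0000003a392c3800313038002c2835002a322a000000003e00000024000000350000001e161129000000003d0000003d0000002c3a3a36000000001900000020000000392c2525002c2c3a003d403c003d1e2e000000003a0000002600000018000000392c3a2e0000000028000000320000003c412a2a00000000350000003e0000002d3d393900242d2400381828002c312d00000000252e2d2a00101628002d3428000000002c18192400353430004524250000000030382c3400322a2a003d383800000000340000003800000034000000253831300030283400222e36000e1a1a0000000036313541003e383800342935000000002928342400283d39003e343a000000003600000034000000360000002c302435001c283000293c38002e1a1a000000001e38383900251d3900112e1c000000002c29383d0024302c00362d3d000000002200000030000000350000002036363e000914150028141500312d1c00000000363a2e3a00162822002c3035000000002c393a350030323d003c2039000000003400000032000000250000002d1d312900000000310000001800000031303031000000002c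000000320000002d35313c00000000310000001c000000301d211d00362a3a003030390022362e000000003430343d00312c3a0036262200000000293c2839002a2630002d3930000000003a213d38002a361c0020262c000000000600000035000000290000000d2429350036313500343040003536340000000031252135002c311d0034282500000000342430220031252d001d292200000000360000002e00000035000000342a30300030201c003a313a001c2438000000001032382d003a2e2a0031313000000000302621320022281c00352925000000002a000000120000003a0000002c362e3500000000280000003600000016312d3400000000350000003a0000003629313500000000000000003000000024201c1c002a2e3a00242d3400312834000000003424392c0030352900363226000000003039392d002a3126002220340000000024412c35002522310031392d00000000360000001800000011000000241d2d100036342e0038392c001a1a2e000000002e243420003920200034253100000000212a1d360039383c003c3231000000003200000016000000240000002d38222e00312d20001415290021382100000000281c263a003a2a36004040390000000036363432003d2c36002d4034000000002a0000002a00000028000000413634320000000035000000280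000002e4141380000000021000000260000003139252d00000000300000002c0000002528293d00222916003e1c280030392d00000000250000002d000000350000003e393d39000000003900000026000000182e2c3a000000003c00000028000000322a412a002d2c310024242d0028381800000000250000003a000000380000001e38392c0000000020000000210000002425293100000000290000003c0000003c2a1e1e002a2a320038313000352c28000000003e000000390000001900000020252c25000000001e0000002400000035291611000000002c0000003d0000003d363a3a002e3d1e003a2c2c003c3d40000000003a383d380034382c002a322a0000000034282d34002a2e2d00281016000000002c2545240024181900303534000000003000000025000000380000003430383100000000380000002a00000030353428000000003500000029000000383138310000000025000000200000000c081415003d3d2d002c383000202632000000002200000025000000140000002d21311d000000002e0000002c00000032382c3200000000260000002c000000192c253500323536003c2c3d003e3a350000000036000000360000003200000025291d3d00000000350000002d00000024212c3000000000120000001e0000002d3521220026212d0038343a003c31300000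0000323a3a2e00263622002e22380000000024363e360039302c00263236000000002d0e1a1a00322a310039261d00000000340000001d000000300000002d382425000000002d000000120000001e223521000000002500000036000000323d291d0000000024000000350000002d30212c00303c31002d2621003a383400000000320000000c00000025000000201508140000000030000000380000002a2835340000000038000000350000002931313800322026002d3d3d00302c38000000002200000019000000260000002c352c25000000002d00000025000000141d213100000000320000002e0000002c32382c00353e3a00363235003d3c2c00000000361d3926001a0e1a0031322a0000000034382e22002e3a3a0022263600000000243626320036363e002c3930000000002d0000002d0000001d00000030253824000000002c000000320000002e2c3238000000002c000000190000002625352c00000000140000002d00000025311d21002c3d3c003a353e0035363200000000360000002d00000024000000352c3021000000001e0000002d00000012212235000000003200000025000000361d3d2900343a380031303c00212d26000000003200000029000000380000003538313100000000200000000c00000025141508000000002a000000300000003834283500383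02c00263220003d2d3d0000000022302c3900323626003e3636000000002d2a313200261d39001a1a0e00000000343622260022382e003a2e3a0000000024000000300000002d0000001d24253800403130001e3c2e00383a2d0000000019303438002d3834002e2a2c00000000382021310032282400392919000000003800000018000000320000002d2a1e1e00193929003120210024322800000000382d383a00304031002e1e3c00000000192c2e2a0038303400342d3800000000380000002d00000018000000321e2a1e0038342d002a2c2e003438300000000038282432002919390021312000000000383c2e1e003a2d38003130400000000019000000320000002d000000181e1e2a000000001e0000003e0000003e353139000000003e0000001e0000003e393531000000003e0000003e0000001e3139350025181900192518001819250000000000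

def tab2 : ℕ := 0x1b1e1e00150a1c001a0f12000000001e1b0e1d001f131f001c1c180000000021151718001a1415001f1e20000000001f0000001f000000190000002013201e001b1d11001a1e1e00151c1d000000000f20141b001e1f23001819180000000020202220001a1d190022211f0000000018000000210000001d0000001a16161400191e16001812100022260f000000002015271a0019112300241a12000000002518121c0011142400161b100000000022000000130000001a0000001d1f10190000000019000000180000001f1f261f000000001d0000001f0000001a111d18000000001c0000001b0000001f23201d0025231f001d151e0019160d00000000141e1b1e001e2017001a1b27000000001a212616001d212100201413000000001e1a172100231d1a001f1d1a00000000180000001b0000001d0000001f211b15001016200012081d001420180000000014231a110026191f00151d1f000000001d191f1a0019231b0023071f0000000019000000200000001f000000211a211c00221e1800121e1d00191821000000002012181b001f151b00141f1a000000001a191c1f00171d1e001d161e000000001d0000001d0000001d0000002120181a00000000200000001f00000020162220000000001e00000023000000191e1c1d000000001b0000002200000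01c2027200020181300222121001b1520000000002223191600201e19001a181b000000002215190e001e1e09001d1b1f000000001821232200211c21001e1f22000000001a0000001d00000022000000211b2313001b1b26001e161e000c201c000000001d212120001e1c20001c1c21000000001c23141400141c1b001b141d00000000190000001e000000160000001e201e1e001f1d1e00231a2300201c1d000000002320191c001a0c17001a1f1900000000211e1d200018111a00151e1f0000000022000000210000001f0000001e141917000000001f000000000000001d1c181f000000001a00000022000000221a1f20000000001b00000022000000101d2021001d1c2100211e1e00171f22000000001a0000001f0000001f00000015221c23000000001e0000001d000000141522180000000018000000190000001f1d0c1c0008221e00182220001b1f17000000001b000000230000001e0000001e1f1d18000000001d0000001b0000001a221f1d000000001d0000001700000021201c12001a1f190014261b00201a06000000001c0000001c000000180000001d1e181700000000230000001800000019221a1a00000000210000001d0000001f27181800102121001d232300231e22000000001d1e211c0019161c001f1b1a000000001514231f00251e1e0022171d00000000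1d1b1315001b1b15001e2123000000001c000000170000001900000018201e1e001f151e00201e1d001a181100000000221d201c001e1f1d0023231a0000000023191a1f001c201900171a0c00000000210000001e000000210000001f17141900221e1f002221230021211c000000001a1b1a18001623190019201e00000000221f1d1b000e151900091e1e0000000018000000210000001d00000022131b23001d1b1400142314001b141c00000000191c0c2000261b1b001e1e16000000001d211c1c0020212100201e1c000000001c0000001e0000001e000000161e201e00000000100000001b00000022211d20000000001d0000001f000000001f1c1800000000220000001a00000022201a1f0022171f00211d1c001e211e000000001a10161b001c18120024111400000000220f22260016191e00101812000000002012241a001a15270023191100000000250000001d000000130000001a191f1000201f1e0018151700151a14000000001f121a0f001e1b1e001c150a000000001e181c1c001d1b0e001f1f130000000021000000200000001f000000191e1320001f22210020202200191a1d00000000181d151c00111b1d001e1a1e000000000f181819001b201400231e1f00000000200000001a000000210000001d141616000000001f0000001c0000001b1d2320000000001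f00000019000000181f1f26000000001a0000001d0000001f18111d000d1916001f2523001e1d1500000000141e1d16001f191c001e171d000000001d2119180018221e001d121e00000000201a141f001b1218001b1f15000000001a000000210000001d0000001d1a2018001a1f1d00211a17001a231d0000000018271a1b001e1e1b00171e20000000001a1320140016212600211d21000000001e0000001f0000001b0000001d15211b001f2307001a191f001b1923000000001918142000201016001d120800000000141f151d0011231a001f2619000000001d00000021000000200000001f1c1a21000000001c0000001b000000222020270000000020000000200000001f20162200000000190000001e000000231d1e1c00201b15001320180021222100000000220000001f000000210000001d182718000000001d0000001c00000018171e18000000001900000023000000181a221a0022231e0021102100231d23000000001d0000001f00000018000000191c1d0c00000000150000001f0000001f23221c00000000140000001e0000001d18152200171b1f001e082200201822000000001b000000210000001d0000001712201c000000001e000000230000001e181f1d000000001a0000001d0000001b1d221f0006201a00191a1f001b1426000000001c231e2100151b1300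151b1b000000001c1a1f1b001c1e21001c191600000000151d2217001f1423001e251e000000001d0000001800000017000000191e201e00191f26001d1f15001a1123000000001d231b1900071f23001f1a190000000019081d12002018140016201000000000140000001f0000002100000020211c1a00151b1f001f1a1400181b12000000001a1d1e1700161e1d001c1f19000000001d1e1d1200182119001e182200000000200000001d000000210000001d181a200021211d0014132000261621000000001e1d1a23001d1a1f0017211a000000001820171e001b271a001b1e1e000000001a0000001d0000001f0000001b1b15210000000023000000190000001e1c1d1e00000000220000001c0000001b272020000000001f0000002000000020222016002121220015201b0018132000000000221c201e001c211c00212021000000001c1c1b1400141d1b001414230000000019161e1e00201c0c001b261b000000001d000000160000001e0000001e1e1e20000c171a001f191a00191c200000000021111a18001e1f15001d201e00000000221a2323001c1d20001d1e1f00000000230000001f0000001e00000021191714001e091e001b1f1d00190e1500000000181c2121001f221e00232221000000001a1e192000181b1a00191623000000002200000022000000210000001d2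3131b0000000022000000220000001a1f201a0000000022000000100000001b20211d00000000000000001d0000001f181f1c001e1e21001f2217001c211d000000001a1f231e0019181800141b2000000000201d191a00211f220022202000000000181e1e1a001c1d15001d111b000000000f0000001d0000001a0000002116141600112319001a122400271a150000000025142411001b101600121c18000000002212101800260f22001e161900000000200000001a0000001d0000001310191f00131f1f001c181c000e1d1b000000002114151a001e201f00171815000000001f0a1c15000f121a001e1e1b000000001e00000019000000200000001f201e13000000001f0000001a0000001d1d1811000000001b0000001f0000001c201d2300000000180000001f00000019261f1f00151e1d00160d1900231f2500000000140000001b0000001a0000001d1f1d220000000017000000210000001d1c1220000000001e0000001e000000231d181f00261b14001a0620001f191a000000001c0000001800000019000000231a1a22000000001d0000001f0000002118182700000000180000001d0000001c18171e0023231d001e222300212110000000001d0000001d000000140000001e22181500000000190000001f000000180c1c1d000000001f000000150000001f1c23220022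2018001f171b00221e08000000001b1e1e2500171d2200231f14000000001d1b151b0021231e0013151b000000001c161c19001b1a1f00211c1e00000000150000001900000018000000171e1e20000000001e0000001d000000232014210000000023000000180000000e1e1f1a000000001f0000001700000016191c1b001c2123001e181e0023201c000000001a00000016000000180000001611221c00000000210000001d0000001b231f230000000023000000190000001c23171b001f231d0017211c001d2322000000001e0000001c0000001d0000001c140d19000000001c0000001e0000001c1b1f1a000000001b000000200000001e2118190016232100251c1c00222220000000001b1e1a12001a1d180020141c00000000191b1d14001b2227001f1c21000000001f1b220b0015171800161026000000001e00000021000000190000001c171513000000001e0000001b00000020192118000000001c0000001c0000001d19140d000000001c0000001c0000001e1a1b1f0020222200211623001c251c000000001b000000160000001f000000171b191c00000000230000001e0000001d212014000000000e00000023000000181a1e1f001c232000231c21001e1e18000000001a0000001c00000023000000191b2317000000001600000016000000181c1122000000001b000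000210000001d23231f00221d23001d1f23001c1721000000001e261610000b1b2200181517000000001e1c201400121e1a00181a1d0000000019211f1c00141b1d00271b22000000001f0000001c0000002100000019131715000000001d0000001b000000211f232300000000190000001c00000023171b2300000000180000001600000016221c1100211c170023221d00231d1f000000001e0000001e0000001c0000001c1f1a1b00000000200000001e0000001b181921000000001d0000001c0000001c0d1914001c1c250022202200232116000000001b000000180000000e000000231f1a1e0000000017000000160000001f1c1b19000000001d000000230000001e14212000181e1e00201c230021231c000000001a22271b001c211f001d141b000000001f1718150010261600220b1b000000001e1d181a00141c20001a121e0000000019000000190000001c0000002115131700231f1c001c1f21001d231f0000000018192721001f1b1f0023221a000000001c1f1e1400231524000d201f0000000018000000220000001900000013201b22001f0d2000141f1e0024231500000000181f1d23001c231f00211c1f00000000181a232200211927001f1f1b000000001c00000013000000220000001922201b001b1f1f00221a2300272119000000001c15242300201f0d001e141f00000000181f211c00231f1d001f1c2300000000180000001900000013000000221b2220000000002100000020000000191d192000000000190000002100000020201d190000000020000000190000002119201d00181e180018181e001e18180000000000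

def ent (t : ℕ) (a b c d e f : F4) : ℕ := (t >>> (8 * code a b c d e f)) % 256

/-- the rank -/
def rk (t : ℕ) (a b c d e f : F4) : ℕ := ent t a b c d e f / 4

def lt (t r : ℕ) (a b c d e f : F4) : Bool := Nat.blt (rk t a b c d e f) r

/-- proportional to `f₀` -/
def base (a b c d e f : F4) : Bool :=
  !(nz a || (nz d || (nz (c + w * b) || (nz (e + v * b) || nz (f + w * b)))))

theorem of_lt {t r : ℕ} {a b c d e f : F4} (h : lt t r a b c d e f = true) : rk t a b c d e f < r := by
  unfold lt at h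
  rwa [Nat.blt_eq] at h

def step1 (E : ℕ) (a b c d e f : F4) : Bool :=
  bif Nat.beq (E / 4) 0 then base a b c d e f else
  bif Nat.beq (E % 4) 0 then gX (lt tab1 (E / 4)) a b c d e f else
  bif Nat.beq (E % 4) 1 then gXi (lt tab1 (E / 4)) a b c d e f else gT (lt tab1 (E / 4)) a b c d e f

def step2 (E : ℕ) (a b c d e f : F4) : Bool :=
  bif Nat.beq (E / 4) 0 then base a b c d e f else
  bif Nat.beq (E % 4) 0 then gX (lt tab2 (E / 4)) a b c d e f else
  bif Nat.beq (E % 4) 1 then gXi (lt tab2 (E / 4)) a b c d e f else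
  bif Nat.beq (E % 4) 2 then gY (lt tab2 (E / 4)) a b c d e f else gYi (lt tab2 (E / 4)) a b c d e f

def chk1 (a b c d e f : F4) : Bool := odd a b c d e f || step1 (ent tab1 a b c d e f) a b c d e f

def chk2 (a b c d e f : F4) : Bool := odd a b c d e f || step2 (ent tab2 a b c d e f) a b c d e f

def all4 (p : F4 → Bool) : Bool := p z && (p o && (p w && p v))

theorem all4_spec {p : F4 → Bool} (h : all4 p = true) (x : F4) : p x = true := by
  unfold all4 at h
  rw [Bool.and_eq_true, Bool.and_eq_true, Bool.and_eq_true] at h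
  cases x
  · exact h.1
  · exact h.2.1
  · exact h.2.2.1
  · exact h.2.2.2

def all6 (p : F4 → F4 → F4 → F4 → F4 → F4 → Bool) : Bool :=
  all4 fun a => all4 fun b => all4 fun c => all4 fun d => all4 fun e => all4 fun f => p a b c d e f

theorem all6_spec {p : F4 → F4 → F4 → F4 → F4 → F4 → Bool} (h : all6 p = true) (a b c d e f : F4) :
    p a b c d e f = true :=
  all4_spec (all4_spec (all4_spec (all4_spec (all4_spec (all4_spec h a) b) c) d) e) f

theorem chk1_all : all6 chk1 = true := by decide +kernel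

theorem chk2_all : all6 chk2 = true := by decide +kernel

theorem mv6 (M : M6) (x : Fin 6 → F4) (i : Fin 6) : (M *ᵥ x) i = M i 0 * x 0 + M i 1 * x 1 + M i 2 * x 2 +
    M i 3 * x 3 + M i 4 * x 4 + M i 5 * x 5 := by
  rw [Matrix.mulVec, dotProduct, Fin.sum_univ_six]

theorem hz : (z : F4) = 0 := rfl

theorem ho : (o : F4) = 1 := rfl

theorem gX_eq (k : F4 → F4 → F4 → F4 → F4 → F4 → Bool) (x : Fin 6 → F4) :
    gX k (x 0) (x 1) (x 2) (x 3) (x 4) (x 5) = k ((X *ᵥ x) 0) ((X *ᵥ x) 1) ((X *ᵥ x) 2) ((X *ᵥ x) 3)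
      ((X *ᵥ x) 4) ((X *ᵥ x) 5) := by
  have h0 : (X *ᵥ x) 0 = x 1 + w * x 2 + v * x 4 := by
    rw [mv6]
    change z * x 0 + o * x 1 + w * x 2 + z * x 3 + v * x 4 + z * x 5 = _
    simp only [hz, ho, zero_mul, one_mul, zero_add, add_zero]
  have h1 : (X *ᵥ x) 1 = v * x 5 := by
    rw [mv6]
    change z * x 0 + z * x 1 + z * x 2 + z * x 3 + z * x 4 + v * x 5 = _
    simp only [hz, ho, zero_mul, one_mul, zero_add, add_zero]
  have h2 : (X *ᵥ x) 2 = x 1 + w * x 2 + w * x 3 := by
    rw [mv6]
    change z * x 0 + o * x 1 + w * x 2 + w * x 3 + z * x 4 + z * x 5 = _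
    simp only [hz, ho, zero_mul, one_mul, zero_add, add_zero]
  have h3 : (X *ᵥ x) 3 = v * x 0 + x 1 + x 2 + v * x 3 + x 4 := by
    rw [mv6]
    change v * x 0 + o * x 1 + o * x 2 + v * x 3 + o * x 4 + z * x 5 = _
    simp only [hz, ho, zero_mul, one_mul, zero_add, add_zero]
  have h4 : (X *ᵥ x) 4 = v * x 0 + w * x 1 + v * x 2 := by
    rw [mv6]
    change v * x 0 + w * x 1 + v * x 2 + z * x 3 + z * x 4 + z * x 5 = _
    simp only [hz, ho, zero_mul, one_mul, zero_add, add_zero]
  have h5 : (X *ᵥ x) 5 = w * x 0 + w * x 1 + x 2 + w * x 3 + v * x 4 := by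
    rw [mv6]
    change w * x 0 + w * x 1 + o * x 2 + w * x 3 + v * x 4 + z * x 5 = _
    simp only [hz, ho, zero_mul, one_mul, zero_add, add_zero]
  rw [h0, h1, h2, h3, h4, h5]
  rfl

theorem gXi_eq (k : F4 → F4 → F4 → F4 → F4 → F4 → Bool) (x : Fin 6 → F4) :
    gXi k (x 0) (x 1) (x 2) (x 3) (x 4) (x 5) = k ((Xi *ᵥ x) 0) ((Xi *ᵥ x) 1) ((Xi *ᵥ x) 2) ((Xi *ᵥ x) 3)
      ((Xi *ᵥ x) 4) ((Xi *ᵥ x) 5) := by
  have h0 : (Xi *ᵥ x) 0 = w * x 3 + w * x 4 + v * x 5 := by
    rw [mv6]
    change z * x 0 + z * x 1 + z * x 2 + w * x 3 + w * x 4 + v * x 5 = _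
    simp only [hz, ho, zero_mul, one_mul, zero_add, add_zero]
  have h1 : (Xi *ᵥ x) 1 = x 0 + x 2 + x 3 + v * x 4 + v * x 5 := by
    rw [mv6]
    change o * x 0 + z * x 1 + o * x 2 + o * x 3 + v * x 4 + v * x 5 = _
    simp only [hz, ho, zero_mul, one_mul, zero_add, add_zero]
  have h2 : (Xi *ᵥ x) 2 = v * x 0 + v * x 2 + x 3 + w * x 4 + x 5 := by
    rw [mv6]
    change v * x 0 + z * x 1 + v * x 2 + o * x 3 + w * x 4 + o * x 5 = _
    simp only [hz, ho, zero_mul, one_mul, zero_add, add_zero]
  have h3 : (Xi *ᵥ x) 3 = v * x 2 + w * x 3 + v * x 5 := by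
    rw [mv6]
    change z * x 0 + z * x 1 + v * x 2 + w * x 3 + z * x 4 + v * x 5 = _
    simp only [hz, ho, zero_mul, one_mul, zero_add, add_zero]
  have h4 : (Xi *ᵥ x) 4 = w * x 0 + x 3 + w * x 5 := by
    rw [mv6]
    change w * x 0 + z * x 1 + z * x 2 + o * x 3 + z * x 4 + w * x 5 = _
    simp only [hz, ho, zero_mul, one_mul, zero_add, add_zero]
  have h5 : (Xi *ᵥ x) 5 = w * x 1 := by
    rw [mv6]
    change z * x 0 + w * x 1 + z * x 2 + z * x 3 + z * x 4 + z * x 5 = _
    simp only [hz, ho, zero_mul, one_mul, zero_add, add_zero]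
  rw [h0, h1, h2, h3, h4, h5]
  rfl

theorem gY_eq (k : F4 → F4 → F4 → F4 → F4 → F4 → Bool) (x : Fin 6 → F4) :
    gY k (x 0) (x 1) (x 2) (x 3) (x 4) (x 5) = k ((Y *ᵥ x) 0) ((Y *ᵥ x) 1) ((Y *ᵥ x) 2) ((Y *ᵥ x) 3)
      ((Y *ᵥ x) 4) ((Y *ᵥ x) 5) := by
  have h0 : (Y *ᵥ x) 0 = w * x 4 := by
    rw [mv6]
    change z * x 0 + z * x 1 + z * x 2 + z * x 3 + w * x 4 + z * x 5 = _
    simp only [hz, ho, zero_mul, one_mul, zero_add, add_zero]
  have h1 : (Y *ᵥ x) 1 = x 0 + v * x 3 + w * x 5 := by
    rw [mv6]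
    change o * x 0 + z * x 1 + z * x 2 + v * x 3 + z * x 4 + w * x 5 = _
    simp only [hz, ho, zero_mul, one_mul, zero_add, add_zero]
  have h2 : (Y *ᵥ x) 2 = x 0 + w * x 1 + w * x 2 + x 3 + x 5 := by
    rw [mv6]
    change o * x 0 + w * x 1 + w * x 2 + o * x 3 + z * x 4 + o * x 5 = _
    simp only [hz, ho, zero_mul, one_mul, zero_add, add_zero]
  have h3 : (Y *ᵥ x) 3 = x 0 + v * x 2 + v * x 3 := by
    rw [mv6]
    change o * x 0 + z * x 1 + v * x 2 + v * x 3 + z * x 4 + z * x 5 = _
    simp only [hz, ho, zero_mul, one_mul, zero_add, add_zero]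
  have h4 : (Y *ᵥ x) 4 = v * x 0 + v * x 1 + v * x 2 + x 3 + w * x 5 := by
    rw [mv6]
    change v * x 0 + v * x 1 + v * x 2 + o * x 3 + z * x 4 + w * x 5 = _
    simp only [hz, ho, zero_mul, one_mul, zero_add, add_zero]
  have h5 : (Y *ᵥ x) 5 = v * x 0 + w * x 1 + w * x 3 := by
    rw [mv6]
    change v * x 0 + w * x 1 + z * x 2 + w * x 3 + z * x 4 + z * x 5 = _
    simp only [hz, ho, zero_mul, one_mul, zero_add, add_zero]
  rw [h0, h1, h2, h3, h4, h5]
  rfl

theorem gYi_eq (k : F4 → F4 → F4 → F4 → F4 → F4 → Bool) (x : Fin 6 → F4) :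
    gYi k (x 0) (x 1) (x 2) (x 3) (x 4) (x 5) = k ((Yi *ᵥ x) 0) ((Yi *ᵥ x) 1) ((Yi *ᵥ x) 2) ((Yi *ᵥ x) 3)
      ((Yi *ᵥ x) 4) ((Yi *ᵥ x) 5) := by
  have h0 : (Yi *ᵥ x) 0 = x 1 + x 2 + x 3 + w * x 4 + w * x 5 := by
    rw [mv6]
    change z * x 0 + o * x 1 + o * x 2 + o * x 3 + w * x 4 + w * x 5 = _
    simp only [hz, ho, zero_mul, one_mul, zero_add, add_zero]
  have h1 : (Yi *ᵥ x) 1 = v * x 2 + w * x 4 + v * x 5 := by
    rw [mv6]
    change z * x 0 + z * x 1 + v * x 2 + z * x 3 + w * x 4 + v * x 5 = _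
    simp only [hz, ho, zero_mul, one_mul, zero_add, add_zero]
  have h2 : (Yi *ᵥ x) 2 = v * x 2 + w * x 3 + w * x 4 := by
    rw [mv6]
    change z * x 0 + z * x 1 + v * x 2 + w * x 3 + w * x 4 + z * x 5 = _
    simp only [hz, ho, zero_mul, one_mul, zero_add, add_zero]
  have h3 : (Yi *ᵥ x) 3 = w * x 1 + x 2 + w * x 3 + x 4 + v * x 5 := by
    rw [mv6]
    change z * x 0 + w * x 1 + o * x 2 + w * x 3 + o * x 4 + v * x 5 = _
    simp only [hz, ho, zero_mul, one_mul, zero_add, add_zero]
  have h4 : (Yi *ᵥ x) 4 = v * x 0 := by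
    rw [mv6]
    change v * x 0 + z * x 1 + z * x 2 + z * x 3 + z * x 4 + z * x 5 = _
    simp only [hz, ho, zero_mul, one_mul, zero_add, add_zero]
  have h5 : (Yi *ᵥ x) 5 = v * x 1 + x 2 + v * x 4 := by
    rw [mv6]
    change z * x 0 + v * x 1 + o * x 2 + z * x 3 + v * x 4 + z * x 5 = _
    simp only [hz, ho, zero_mul, one_mul, zero_add, add_zero]
  rw [h0, h1, h2, h3, h4, h5]
  rfl

theorem gT_eq (k : F4 → F4 → F4 → F4 → F4 → F4 → Bool) (x : Fin 6 → F4) :
    gT k (x 0) (x 1) (x 2) (x 3) (x 4) (x 5) = k ((Tg *ᵥ x) 0) ((Tg *ᵥ x) 1) ((Tg *ᵥ x) 2) ((Tg *ᵥ x) 3)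
      ((Tg *ᵥ x) 4) ((Tg *ᵥ x) 5) := by
  have h0 : (Tg *ᵥ x) 0 = x 0 := by
    rw [mv6]
    change o * x 0 + z * x 1 + z * x 2 + z * x 3 + z * x 4 + z * x 5 = _
    simp only [hz, ho, zero_mul, one_mul, zero_add, add_zero]
  have h1 : (Tg *ᵥ x) 1 = x 3 := by
    rw [mv6]
    change z * x 0 + z * x 1 + z * x 2 + o * x 3 + z * x 4 + z * x 5 = _
    simp only [hz, ho, zero_mul, one_mul, zero_add, add_zero]
  have h2 : (Tg *ᵥ x) 2 = x 2 := by
    rw [mv6]
    change z * x 0 + z * x 1 + o * x 2 + z * x 3 + z * x 4 + z * x 5 = _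
    simp only [hz, ho, zero_mul, one_mul, zero_add, add_zero]
  have h3 : (Tg *ᵥ x) 3 = x 1 := by
    rw [mv6]
    change z * x 0 + o * x 1 + z * x 2 + z * x 3 + z * x 4 + z * x 5 = _
    simp only [hz, ho, zero_mul, one_mul, zero_add, add_zero]
  have h4 : (Tg *ᵥ x) 4 = x 4 := by
    rw [mv6]
    change z * x 0 + z * x 1 + z * x 2 + z * x 3 + o * x 4 + z * x 5 = _
    simp only [hz, ho, zero_mul, one_mul, zero_add, add_zero]
  have h5 : (Tg *ᵥ x) 5 = x 5 := by
    rw [mv6]
    change z * x 0 + z * x 1 + z * x 2 + z * x 3 + z * x 4 + o * x 5 = _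
    simp only [hz, ho, zero_mul, one_mul, zero_add, add_zero]
  rw [h0, h1, h2, h3, h4, h5]
  rfl


theorem X_st : st X * X = 1 := by decide +kernel

theorem Xi_st : st Xi * Xi = 1 := by decide +kernel

theorem Y_st : st Y * Y = 1 := by decide +kernel

theorem Yi_st : st Yi * Yi = 1 := by decide +kernel

theorem Tg_st : st Tg * Tg = 1 := by decide +kernel

theorem Jm_st : st Jm * Jm = 1 := by decide +kernel

theorem herm_pres {M : M6} (h : st M * M = 1) (x y : Fin 6 → F4) :
    hermForm 6 F4 2 (M *ᵥ x) (M *ᵥ y) = hermForm 6 F4 2 x y := by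
  have h1 : Mᵀ * M.map frob = 1 := by
    have := congrArg Matrix.transpose h
    rwa [Matrix.transpose_mul, Matrix.transpose_one, st, Matrix.transpose_transpose] at this
  rw [herm_mul, h1, Matrix.one_mulVec]
  rfl

def bf (b : Bool) : F4 := bif b then 1 else 0

theorem cube_eq (a : F4) : a * a ^ 2 = bf (nz a) := by
  revert a
  decide

theorem odd_of {x : Fin 6 → F4} (h : hermForm 6 F4 2 x x = 0) : odd (x 0) (x 1) (x 2) (x 3) (x 4) (x 5) = false := by
  have h1 : hermForm 6 F4 2 x x = x 0 * (x 0) ^ 2 + x 1 * (x 1) ^ 2 + x 2 * (x 2) ^ 2 + x 3 * (x 3) ^ 2 +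
      x 4 * (x 4) ^ 2 + x 5 * (x 5) ^ 2 := by
    rw [hermForm, Fin.sum_univ_six]
  rw [h1, cube_eq, cube_eq, cube_eq, cube_eq, cube_eq, cube_eq] at h
  unfold odd
  generalize nz (x 0) = b0 at h ⊢
  generalize nz (x 1) = b1 at h ⊢
  generalize nz (x 2) = b2 at h ⊢
  generalize nz (x 3) = b3 at h ⊢
  generalize nz (x 4) = b4 at h ⊢
  generalize nz (x 5) = b5 at h ⊢
  revert b0 b1 b2 b3 b4 b5
  decide

/-- the vector `f₀` -/
def f0 : Fin 6 → F4 := ![z, o, w, z, v, w]

theorem nz_false {a : F4} (h : nz a = false) : a = 0 := by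
  revert a
  decide

theorem eq_of_nz {a b : F4} (h : nz (a + b) = false) : a = b := by
  revert a b
  decide

theorem base_spec {x : Fin 6 → F4} (h : base (x 0) (x 1) (x 2) (x 3) (x 4) (x 5) = true) : x = x 1 • f0 := by
  unfold base at h
  rw [Bool.not_eq_true', Bool.or_eq_false_iff, Bool.or_eq_false_iff, Bool.or_eq_false_iff,
    Bool.or_eq_false_iff] at h
  obtain ⟨h1, h2, h3, h4, h5⟩ := h
  funext i
  fin_cases i
  · change x 0 = x 1 * z
    rw [nz_false h1, hz, mul_zero]
  · change x 1 = x 1 * o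
    rw [ho, mul_one]
  · change x 2 = x 1 * w
    rw [eq_of_nz h3, mul_comm]
  · change x 3 = x 1 * z
    rw [nz_false h2, hz, mul_zero]
  · change x 4 = x 1 * v
    rw [eq_of_nz h4, mul_comm]
  · change x 5 = x 1 * w
    rw [eq_of_nz h5, mul_comm]

/-- **first certificate** -/
theorem desc1 {R : (Fin 6 → F4) → Prop} (h0 : ∀ c : F4, R (c • f0)) (hX : ∀ x, R (X *ᵥ x) → R x)
    (hXi : ∀ x, R (Xi *ᵥ x) → R x) (hT : ∀ x, R (Tg *ᵥ x) → R x) (x : Fin 6 → F4)
    (hx : hermForm 6 F4 2 x x = 0) : R x := by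
  obtain ⟨n, hn⟩ : ∃ n, rk tab1 (x 0) (x 1) (x 2) (x 3) (x 4) (x 5) = n := ⟨_, rfl⟩
  induction n using Nat.strong_induction_on generalizing x with
  | _ n ih =>
    have h := all6_spec chk1_all (x 0) (x 1) (x 2) (x 3) (x 4) (x 5)
    unfold chk1 at h
    rw [odd_of hx, Bool.false_or] at h
    unfold step1 at h
    cases hb : Nat.beq (ent tab1 (x 0) (x 1) (x 2) (x 3) (x 4) (x 5) / 4) 0 with
    | true =>
      rw [hb, cond_true] at h
      rw [base_spec h]
      exact h0 _
    | false =>
      rw [hb, cond_false] at h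
      cases hc : Nat.beq (ent tab1 (x 0) (x 1) (x 2) (x 3) (x 4) (x 5) % 4) 0 with
      | true =>
        rw [hc, cond_true, gX_eq] at h
        exact hX x (ih _ (hn ▸ of_lt h) _ ((herm_pres X_st x x).trans hx) rfl)
      | false =>
        rw [hc, cond_false] at h
        cases hd : Nat.beq (ent tab1 (x 0) (x 1) (x 2) (x 3) (x 4) (x 5) % 4) 1 with
        | true =>
          rw [hd, cond_true, gXi_eq] at h
          exact hXi x (ih _ (hn ▸ of_lt h) _ ((herm_pres Xi_st x x).trans hx) rfl)
        | false =>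
          rw [hd, cond_false, gT_eq] at h
          exact hT x (ih _ (hn ▸ of_lt h) _ ((herm_pres Tg_st x x).trans hx) rfl)

/-- **second certificate** -/
theorem desc2 {R : (Fin 6 → F4) → Prop} (h0 : ∀ c : F4, R (c • f0)) (hX : ∀ x, R (X *ᵥ x) → R x)
    (hXi : ∀ x, R (Xi *ᵥ x) → R x) (hY : ∀ x, R (Y *ᵥ x) → R x) (hYi : ∀ x, R (Yi *ᵥ x) → R x)
    (x : Fin 6 → F4) (hx : hermForm 6 F4 2 x x = 0) : R x := by
  obtain ⟨n, hn⟩ : ∃ n, rk tab2 (x 0) (x 1) (x 2) (x 3) (x 4) (x 5) = n := ⟨_, rfl⟩
  induction n using Nat.strong_induction_on generalizing x with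
  | _ n ih =>
    have h := all6_spec chk2_all (x 0) (x 1) (x 2) (x 3) (x 4) (x 5)
    unfold chk2 at h
    rw [odd_of hx, Bool.false_or] at h
    unfold step2 at h
    cases hb : Nat.beq (ent tab2 (x 0) (x 1) (x 2) (x 3) (x 4) (x 5) / 4) 0 with
    | true =>
      rw [hb, cond_true] at h
      rw [base_spec h]
      exact h0 _
    | false =>
      rw [hb, cond_false] at h
      cases hc : Nat.beq (ent tab2 (x 0) (x 1) (x 2) (x 3) (x 4) (x 5) % 4) 0 with
      | true =>
        rw [hc, cond_true, gX_eq] at h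
        exact hX x (ih _ (hn ▸ of_lt h) _ ((herm_pres X_st x x).trans hx) rfl)
      | false =>
        rw [hc, cond_false] at h
        cases hd : Nat.beq (ent tab2 (x 0) (x 1) (x 2) (x 3) (x 4) (x 5) % 4) 1 with
        | true =>
          rw [hd, cond_true, gXi_eq] at h
          exact hXi x (ih _ (hn ▸ of_lt h) _ ((herm_pres Xi_st x x).trans hx) rfl)
        | false =>
          rw [hd, cond_false] at h
          cases he : Nat.beq (ent tab2 (x 0) (x 1) (x 2) (x 3) (x 4) (x 5) % 4) 2 with
          | true =>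
            rw [he, cond_true, gY_eq] at h
            exact hY x (ih _ (hn ▸ of_lt h) _ ((herm_pres Y_st x x).trans hx) rfl)
          | false =>
            rw [he, cond_false, gYi_eq] at h
            exact hYi x (ih _ (hn ▸ of_lt h) _ ((herm_pres Yi_st x x).trans hx) rfl)

end Cfsg.Agent.H62.Spr.U62
end

-- part: H62/Spr/U62Main
section
/-!
# S3938 (3/2-generation), `PSU_6(2)` (helper62, task 4834)

The method is helper891's: if `K` contains a transvection `t_f`, it contains `α(t_f) = t_{Bf}`. Either some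
singular `f` is not orthogonal to `B f` (one generating pair), or `α` is the graph involution with centralizer
`Sp_6(2)`, unique up to conjugacy (one generating pair `x`, `α(x)`).
-/

set_option autoImplicit false
set_option maxRecDepth 100000

namespace Cfsg.Agent.H62.Spr.U62

open Cfsg Matrix Cfsg.Agent.SporadicA.FieldFour F4 Cfsg.Agent.LieClassical.HermBasic
  Cfsg.Agent.LieClassical.HermSiegel Cfsg.Agent.LieClassical.HermGen Cfsg.Agent.ClassicalGeometry.UnitAutBasic
  Cfsg.Agent.ClassicalGeometry.PSUAutCount Cfsg.Agent.ClassicalGeometry.HermOrtho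
open Cfsg.Agent.H852.USixElts (M6 st mk hF frob det_one_of_pow)
open Cfsg.Agent.H424.Spr (Spr)

theorem X_pow : X ^ 10 = 1 := by decide +kernel

theorem X_Xi : X * Xi = 1 := by decide +kernel

theorem Y_Yi : Y * Yi = 1 := by decide +kernel

/-- the element of order 10 -/
def x1 : SU 6 F4 2 := mk X X_st (det_one_of_pow 10 X_pow (by decide))

theorem act_x1 (y : Fin 6 → F4) : act x1 y = X *ᵥ y := rfl

theorem act_inv_of {g : SU 6 F4 2} {A B : M6} (h : ∀ y, act g y = A *ᵥ y) (hAB : A * B = 1) (y : Fin 6 → F4) :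
    act g⁻¹ y = B *ᵥ y := by
  have h1 : act g (B *ᵥ y) = y := by rw [h, mulVec_mulVec, hAB, one_mulVec]
  rw [← h1, act_inv_act, h1]

theorem act_x1_inv (y : Fin 6 → F4) : act x1⁻¹ y = Xi *ᵥ y := act_inv_of act_x1 X_Xi y

theorem c0_eq : c0 hF = 1 := by
  have h1 := c0_ne_zero hF
  have h2 := c0_tr hF
  generalize c0 hF = c at h1 h2
  revert c
  decide

/-- the vector `g₀` -/
def g0 : Fin 6 → F4 := ![z, o, z, o, z, z]

theorem f0_iso : hermForm 6 F4 2 f0 f0 = 0 := by
  rw [hermForm, Fin.sum_univ_six]; decide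

theorem g0_iso : hermForm 6 F4 2 g0 g0 = 0 := by
  rw [hermForm, Fin.sum_univ_six]; decide

theorem f0_g0 : hermForm 6 F4 2 f0 g0 = 1 := by
  rw [hermForm, Fin.sum_univ_six]; decide

theorem act_Tg (y : Fin 6 → F4) : act (T hF g0) y = Tg *ᵥ y := by
  rw [act_T hF g0_iso, c0_eq, one_mul]
  have h1 : hermForm 6 F4 2 y g0 = y 1 + y 3 := by
    rw [hermForm, Fin.sum_univ_six]
    change y 0 * (0 : F4) ^ 2 + y 1 * (1 : F4) ^ 2 + y 2 * (0 : F4) ^ 2 + y 3 * (1 : F4) ^ 2 + y 4 * (0 : F4) ^ 2 +
      y 5 * (0 : F4) ^ 2 = _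
    ring
  have h2 : ∀ a b : F4, a + (a + b) * 1 = b := by decide
  have h3 : ∀ a b : F4, b + (a + b) * 1 = a := by decide
  rw [h1]
  funext i
  rw [mv6]
  fin_cases i
  · change y 0 + (y 1 + y 3) * (0 : F4) = 1 * y 0 + 0 * y 1 + 0 * y 2 + 0 * y 3 + 0 * y 4 + 0 * y 5
    ring
  · change y 1 + (y 1 + y 3) * (1 : F4) = 0 * y 0 + 0 * y 1 + 0 * y 2 + 1 * y 3 + 0 * y 4 + 0 * y 5
    rw [h2]; ring
  · change y 2 + (y 1 + y 3) * (0 : F4) = 0 * y 0 + 0 * y 1 + 1 * y 2 + 0 * y 3 + 0 * y 4 + 0 * y 5
    ring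
  · change y 3 + (y 1 + y 3) * (1 : F4) = 0 * y 0 + 1 * y 1 + 0 * y 2 + 0 * y 3 + 0 * y 4 + 0 * y 5
    rw [h3]; ring
  · change y 4 + (y 1 + y 3) * (0 : F4) = 0 * y 0 + 0 * y 1 + 0 * y 2 + 0 * y 3 + 1 * y 4 + 0 * y 5
    ring
  · change y 5 + (y 1 + y 3) * (0 : F4) = 0 * y 0 + 0 * y 1 + 0 * y 2 + 0 * y 3 + 0 * y 4 + 1 * y 5
    ring

theorem X_five : X ^ 5 = 1 + Matrix.vecMulVec f0 (fun i => f0 i ^ 2) := by decide +kernel

theorem mat_x1_pow (n : ℕ) : mat (x1 ^ n) = X ^ n := by
  induction n with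
  | zero => rfl
  | succ n ih =>
    rw [pow_succ, mat_mul, ih, pow_succ]
    rfl

theorem T_f0 : T hF f0 = x1 ^ 5 := by
  apply ext_act
  intro y
  rw [act_T hF f0_iso, c0_eq, one_mul, act_def, mat_x1_pow, X_five, Matrix.add_mulVec, Matrix.one_mulVec]
  congr 1
  funext i
  rw [Matrix.mulVec, dotProduct]
  simp only [vecMulVec_apply, Pi.smul_apply, smul_eq_mul]
  rw [hermForm, Finset.sum_mul]
  refine Finset.sum_congr rfl fun j _ => ?_
  ring

theorem tau_f0 : tau hF f0 = pr 6 F4 2 x1 ^ 5 := by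
  rw [tau_def, T_f0, map_pow]

instance simp6 : IsSimpleGroup (PSU 6 F4 2) := Cfsg.Agent.S0283.result hF 6 (by norm_num) (by omega)

theorem cube_one {c : F4} (h : c ≠ 0) : c * c ^ 2 = 1 := by
  revert c
  decide

theorem tau_smul {y : Fin 6 → F4} (hy : hermForm 6 F4 2 y y = 0) {c : F4} (hc : c ≠ 0) :
    tau hF (c • y) = tau hF y := by
  have := tau_smul_congr hF hy (a := c) (b := 1) (by rw [cube_one hc, cube_one one_ne_zero])
  rwa [one_smul] at this

theorem top_of_tau {K : Subgroup (PSU 6 F4 2)} (h : ∀ y, hermForm 6 F4 2 y y = 0 → tau hF y ∈ K) : K = ⊤ := by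
  set S : Set (PSU 6 F4 2) := {t | ∃ y, hermForm 6 F4 2 y y = 0 ∧ t = tau hF y} with hS
  have hN : (Subgroup.closure S).Normal := by
    constructor
    intro t ht g
    obtain ⟨g, rfl⟩ := pr_surjective g
    induction ht using Subgroup.closure_induction with
    | mem t ht =>
      obtain ⟨y, hy, rfl⟩ := ht
      rw [conj_tau hF g hy]
      exact Subgroup.subset_closure ⟨_, iso_act g hy, rfl⟩
    | one => rw [mul_one, mul_inv_cancel]; exact one_mem _
    | mul a b _ _ ha hb =>
      have : pr 6 F4 2 g * (a * b) * (pr 6 F4 2 g)⁻¹ = (pr 6 F4 2 g * a * (pr 6 F4 2 g)⁻¹) *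
          (pr 6 F4 2 g * b * (pr 6 F4 2 g)⁻¹) := by group
      rw [this]
      exact mul_mem ha hb
    | inv a _ ha =>
      have : pr 6 F4 2 g * a⁻¹ * (pr 6 F4 2 g)⁻¹ = (pr 6 F4 2 g * a * (pr 6 F4 2 g)⁻¹)⁻¹ := by group
      rw [this]
      exact inv_mem ha
  rcases hN.eq_bot_or_eq_top with h1 | h1
  · exfalso
    have h2 : tau hF f0 ∈ Subgroup.closure S := Subgroup.subset_closure ⟨f0, f0_iso, rfl⟩
    rw [h1, Subgroup.mem_bot, tau_eq_one_iff hF (by norm_num) f0_iso] at h2
    have := congrFun h2 1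
    exact absurd this (by decide)
  · rw [eq_top_iff, ← h1, Subgroup.closure_le]
    rintro t ⟨y, hy, rfl⟩
    exact h y hy

theorem tau_of_reach {K : Subgroup (PSU 6 F4 2)} (h0 : tau hF f0 ∈ K)
    (h : ∀ y, hermForm 6 F4 2 y y = 0 → ∃ k : SU 6 F4 2, pr 6 F4 2 k ∈ K ∧ ∃ c : F4, act k y = c • f0) :
    K = ⊤ := by
  refine top_of_tau fun y hy => ?_
  obtain ⟨k, hk, c, hc⟩ := h y hy
  by_cases hc0 : c = 0
  · rw [hc0, zero_smul, act_eq_zero] at hc
    rw [hc, tau_zero]
    exact one_mem _
  · have h1 := conj_tau hF k hy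
    rw [hc, tau_smul f0_iso hc0] at h1
    have h2 : tau hF y = (pr 6 F4 2 k)⁻¹ * tau hF f0 * pr 6 F4 2 k := by rw [← h1]; group
    rw [h2]
    exact mul_mem (mul_mem (inv_mem hk) h0) hk

/-- **first generating pair** -/
theorem gen1 {K : Subgroup (PSU 6 F4 2)} (h1 : pr 6 F4 2 x1 ∈ K) (h2 : tau hF g0 ∈ K) : K = ⊤ := by
  refine tau_of_reach (by rw [tau_f0]; exact pow_mem h1 5) ?_
  have key : ∀ (g : SU 6 F4 2) (M : M6), (∀ y, act g y = M *ᵥ y) → pr 6 F4 2 g ∈ K → ∀ y : Fin 6 → F4,
      (∃ k : SU 6 F4 2, pr 6 F4 2 k ∈ K ∧ ∃ c : F4, act k (M *ᵥ y) = c • f0) →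
      ∃ k : SU 6 F4 2, pr 6 F4 2 k ∈ K ∧ ∃ c : F4, act k y = c • f0 := by
    rintro g M hM hg y ⟨k, hk, c, hc⟩
    refine ⟨k * g, by rw [map_mul]; exact mul_mem hk hg, c, ?_⟩
    rw [act_mul, hM, hc]
  refine desc1 (fun c => ⟨1, by rw [map_one]; exact one_mem _, c, act_one _⟩) (key x1 X act_x1 h1)
    (key x1⁻¹ Xi act_x1_inv (by rw [map_inv]; exact inv_mem h1)) (key (T hF g0) Tg act_Tg h2)

section semi

variable {ρ : F4 ≃+* F4} (hρ : ∀ a, ρ a = a ^ 2)

/-- the matrix `J` as an element of `GU` -/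
def J0 : Cfsg.GU 6 F4 2 := ⟨⟨Jm, Jm, by decide +kernel, by decide +kernel⟩, fun x y => herm_pres Jm_st x y⟩

theorem gm_J0 : gm J0 = Jm := rfl

theorem Jm_X : Jm * X.map frob = Y * Jm := by decide +kernel

theorem Jm_Jm : Jm * Jm = 1 := by decide +kernel

include hρ

theorem act_y1 (y : Fin 6 → F4) : act (semiConj J0 ρ x1) y = Y *ᵥ y := by
  have h1 : ∀ x : Fin 6 → F4, (fun i => ρ (x i)) = fun i => frob (x i) := fun x => funext fun i => hρ _
  have h2 := act_semiConj J0 ρ x1 (fun i => frob ((Jm *ᵥ y) i))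
  have h3 : (fun i => ρ ((fun i => frob ((Jm *ᵥ y) i)) i)) = Jm *ᵥ y := by
    funext i
    change ρ (frob ((Jm *ᵥ y) i)) = _
    rw [hρ]
    change ((Jm *ᵥ y) i ^ 2) ^ 2 = _
    generalize (Jm *ᵥ y) i = a
    revert a
    decide
  have h4 : (fun i => ρ (act x1 (fun i => frob ((Jm *ᵥ y) i)) i)) = X.map frob *ᵥ (Jm *ᵥ y) := by
    rw [h1]
    funext i
    rw [act_x1]
    have := RingHom.map_mulVec frob X (fun i => frob ((Jm *ᵥ y) i)) i
    rw [this]
    congr 2
    funext j
    change frob (frob ((Jm *ᵥ y) j)) = _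
    change ((Jm *ᵥ y) j ^ 2) ^ 2 = _
    generalize (Jm *ᵥ y) j = a
    revert a
    decide
  rw [h3, h4, gm_J0, mulVec_mulVec, Jm_Jm, one_mulVec, mulVec_mulVec, mulVec_mulVec, Jm_X, Matrix.mul_assoc,
    Jm_Jm, Matrix.mul_one] at h2
  exact h2

/-- **second generating pair** -/
theorem gen2 {K : Subgroup (PSU 6 F4 2)} (h1 : pr 6 F4 2 x1 ∈ K) (h2 : ∀ k ∈ K, toAut J0 ρ k ∈ K) : K = ⊤ := by
  refine tau_of_reach (by rw [tau_f0]; exact pow_mem h1 5) ?_
  have key : ∀ (g : SU 6 F4 2) (M : M6), (∀ y, act g y = M *ᵥ y) → pr 6 F4 2 g ∈ K → ∀ y : Fin 6 → F4,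
      (∃ k : SU 6 F4 2, pr 6 F4 2 k ∈ K ∧ ∃ c : F4, act k (M *ᵥ y) = c • f0) →
      ∃ k : SU 6 F4 2, pr 6 F4 2 k ∈ K ∧ ∃ c : F4, act k y = c • f0 := by
    rintro g M hM hg y ⟨k, hk, c, hc⟩
    refine ⟨k * g, by rw [map_mul]; exact mul_mem hk hg, c, ?_⟩
    rw [act_mul, hM, hc]
  have h3 : pr 6 F4 2 (semiConj J0 ρ x1) ∈ K := by
    rw [← toAut_pr]
    exact h2 _ h1
  refine desc2 (fun c => ⟨1, by rw [map_one]; exact one_mem _, c, act_one _⟩) (key x1 X act_x1 h1)
    (key x1⁻¹ Xi act_x1_inv (by rw [map_inv]; exact inv_mem h1)) (key _ Y (act_y1 hρ) h3)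
    (key (semiConj J0 ρ x1)⁻¹ Yi (act_inv_of (act_y1 hρ) Y_Yi) (by rw [map_inv]; exact inv_mem h3))

end semi

end Cfsg.Agent.H62.Spr.U62
end

-- part: H62/Spr/U62Spr
section
/-!
# S3938 (3/2-generation), `PSU_6(2)`: the theorem over `F₄` (helper62, task 4834)
-/

set_option autoImplicit false
set_option maxRecDepth 100000
set_option linter.unusedSectionVars false

namespace Cfsg.Agent.H62.Spr.U62

open Cfsg Matrix Cfsg.Agent.SporadicA.FieldFour F4 Cfsg.Agent.LieClassical.HermBasic
  Cfsg.Agent.LieClassical.HermSiegel Cfsg.Agent.LieClassical.HermGen Cfsg.Agent.ClassicalGeometry.UnitAutBasic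
  Cfsg.Agent.ClassicalGeometry.PSUAutCount Cfsg.Agent.ClassicalGeometry.HermOrtho
open Cfsg.Agent.H852.USixElts (M6 st mk hF frob det_one_of_pow)
open Cfsg.Agent.H424.Spr (Spr)

/-- the semilinear map -/
def Bm (A : Cfsg.GU 6 F4 2) (ρ : F4 ≃+* F4) (x : Fin 6 → F4) : Fin 6 → F4 := gm A *ᵥ fun i => ρ (x i)

/-- the first case: a singular vector not orthogonal to its image -/
theorem case_one {A : Cfsg.GU 6 F4 2} {ρ : F4 ≃+* F4} {f : Fin 6 → F4} (hf : hermForm 6 F4 2 f f = 0)
    (hfB : hermForm 6 F4 2 f (Bm A ρ f) ≠ 0) :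
    ∃ x : PSU 6 F4 2, ∀ K : Subgroup (PSU 6 F4 2), x ∈ K → (∀ k ∈ K, toAut A ρ k ∈ K) → K = ⊤ := by
  have hB : hermForm 6 F4 2 (Bm A ρ f) (Bm A ρ f) = 0 := by
    rw [Bm, herm_semi, hf, map_zero]
  set h := hermForm 6 F4 2 f (Bm A ρ f) with hh
  have h1 : hermForm 6 F4 2 f (h • Bm A ρ f) = 1 := by
    rw [herm_smul_right, ← hh, mul_comm]
    exact cube_one hfB
  have h2 : hermForm 6 F4 2 (h • Bm A ρ f) (h • Bm A ρ f) = 0 := iso_smul h hB
  obtain ⟨g, -, hg1, hg2⟩ := exists_map_hyp hF (k := 6) (by norm_num) le_rfl (mem_coordSub_top f0)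
    (mem_coordSub_top g0) (mem_coordSub_top f) (mem_coordSub_top (h • Bm A ρ f)) f0_iso g0_iso f0_g0 hf h2 h1
  refine ⟨pr 6 F4 2 g * pr 6 F4 2 x1 * (pr 6 F4 2 g)⁻¹, fun K hx hK => ?_⟩
  have e1 : tau hF f ∈ K := by
    rw [← hg1, ← conj_tau hF g f0_iso, tau_f0]
    have : pr 6 F4 2 g * pr 6 F4 2 x1 ^ 5 * (pr 6 F4 2 g)⁻¹ =
        (pr 6 F4 2 g * pr 6 F4 2 x1 * (pr 6 F4 2 g)⁻¹) ^ 5 := (conj_pow).symm
    rw [this]
    exact pow_mem hx 5
  have e2 : tau hF (h • Bm A ρ f) ∈ K := by
    obtain ⟨r, hr0, hr⟩ := exists_r hF ρ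
    have := hK _ e1
    rw [toAut_tau hF A ρ hr hf] at this
    rw [tau_smul hB hfB]
    change tau hF (r • Bm A ρ f) ∈ K at this
    rwa [tau_smul hB hr0] at this
  have e3 : K.comap (MulAut.conj (pr 6 F4 2 g)).toMonoidHom = ⊤ := by
    apply gen1
    · exact hx
    · change pr 6 F4 2 g * tau hF g0 * (pr 6 F4 2 g)⁻¹ ∈ K
      rw [conj_tau hF g g0_iso, hg2]
      exact e2
  rw [eq_top_iff]
  intro y _
  have e4 : (pr 6 F4 2 g)⁻¹ * y * pr 6 F4 2 g ∈ K.comap (MulAut.conj (pr 6 F4 2 g)).toMonoidHom := by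
    rw [e3]; trivial
  have e5 : pr 6 F4 2 g * ((pr 6 F4 2 g)⁻¹ * y * pr 6 F4 2 g) * (pr 6 F4 2 g)⁻¹ ∈ K := e4
  have e6 : pr 6 F4 2 g * ((pr 6 F4 2 g)⁻¹ * y * pr 6 F4 2 g) * (pr 6 F4 2 g)⁻¹ = y := by group
  rwa [e6] at e5

theorem rho_cases (ρ : F4 ≃+* F4) : (∀ a, ρ a = a) ∨ ∀ a, ρ a = a ^ 2 := by
  have h0 : ρ z = z := map_zero ρ
  have h1 : ρ o = o := map_one ρ
  have h2 : ρ w ≠ z := fun h => absurd (ρ.injective (h.trans h0.symm)) (by decide)
  have h3 : ρ w ≠ o := fun h => absurd (ρ.injective (h.trans h1.symm)) (by decide)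
  have h4 : ρ v = ρ w ^ 2 := by rw [← map_pow]; rfl
  rcases hw : ρ w with _ | _ | _ | _
  · exact absurd hw h2
  · exact absurd hw h3
  · left
    rw [hw] at h4
    intro a
    cases a
    · exact h0
    · exact h1
    · exact hw
    · exact h4
  · right
    rw [hw] at h4
    intro a
    cases a
    · exact h0
    · exact h1
    · exact hw
    · exact h4

/-- the vector `e_i + c e_j` -/
def eij (i j : Fin 6) (c : F4) : Fin 6 → F4 := Pi.single i 1 + c • Pi.single j 1

theorem eij_iso {i j : Fin 6} (hij : i ≠ j) {c : F4} (hc : c ≠ 0) : hermForm 6 F4 2 (eij i j c) (eij i j c) = 0 := by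
  rw [eij, herm_add_left, herm_add_right hF, herm_add_right hF, herm_smul_left, herm_smul_left,
    herm_smul_right, herm_smul_right, herm_single_left, herm_single_left, herm_single_left,
    herm_single_left, Pi.single_eq_same, Pi.single_eq_of_ne hij, Pi.single_eq_same, Pi.single_eq_of_ne hij.symm]
  revert c
  decide

theorem Bm_eij (A : Cfsg.GU 6 F4 2) (ρ : F4 ≃+* F4) (i j : Fin 6) (c : F4) (k : Fin 6) :
    Bm A ρ (eij i j c) k = gm A k i + ρ c * gm A k j := by
  have h1 : (fun i' => ρ (eij i j c i')) = Pi.single i 1 + ρ c • Pi.single j 1 := by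
    funext i'
    rw [eij, Pi.add_apply, Pi.add_apply, Pi.smul_apply, Pi.smul_apply, map_add, smul_eq_mul, map_mul,
      smul_eq_mul]
    congr 1
    · rcases eq_or_ne i' i with rfl | hi
      · rw [Pi.single_eq_same, map_one]
      · rw [Pi.single_eq_of_ne hi, map_zero]
    · congr 1
      rcases eq_or_ne i' j with rfl | hi
      · rw [Pi.single_eq_same, map_one]
      · rw [Pi.single_eq_of_ne hi, map_zero]
  rw [Bm, h1, mulVec_add, mulVec_smul, mulVec_single_one, mulVec_single_one, Pi.add_apply,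
    Pi.smul_apply, smul_eq_mul]
  rfl

theorem herm_eij (A : Cfsg.GU 6 F4 2) (ρ : F4 ≃+* F4) {i j : Fin 6} (c : F4) :
    hermForm 6 F4 2 (eij i j c) (Bm A ρ (eij i j c)) =
      (gm A i i + ρ c * gm A i j) ^ 2 + c * (gm A j i + ρ c * gm A j j) ^ 2 := by
  have : eij i j c = Pi.single i 1 + c • Pi.single j 1 := rfl
  conv_lhs => rw [this, herm_add_left, herm_smul_left, herm_single_left, herm_single_left, ← this]
  rw [Bm_eij, Bm_eij, one_mul, one_mul]

theorem lin_case : ∀ a b c d : F4, (∀ l : F4, l ≠ 0 → (a + l * b) ^ 2 + l * (c + l * d) ^ 2 = 0) →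
    b = 0 ∧ c = 0 ∧ a = d := by decide +kernel

theorem semi_case : ∀ a b c d : F4, (∀ l : F4, l ≠ 0 → (a + l ^ 2 * b) ^ 2 + l * (c + l ^ 2 * d) ^ 2 = 0) →
    a = 0 ∧ b = c ∧ d = 0 := by decide +kernel

/-- the linear case -/
theorem one_of_lin {A : Cfsg.GU 6 F4 2} {ρ : F4 ≃+* F4} (hρ : ∀ a, ρ a = a)
    (h : ∀ f, hermForm 6 F4 2 f f = 0 → hermForm 6 F4 2 f (Bm A ρ f) = 0) : toAut A ρ = 1 := by
  have h1 : ∀ i j : Fin 6, i ≠ j → gm A i j = 0 ∧ gm A j i = 0 ∧ gm A i i = gm A j j := by
    intro i j hij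
    apply lin_case
    intro l hl
    have := h _ (eij_iso hij hl)
    rwa [herm_eij, hρ] at this
  have h2 : ∀ x : Fin 6 → F4, gm A *ᵥ x = gm A 0 0 • x := by
    intro x
    have h3 : gm A = gm A 0 0 • (1 : M6) := by
      ext i j
      rw [Matrix.smul_apply, smul_eq_mul]
      rcases eq_or_ne i j with rfl | hij
      · rw [Matrix.one_apply_eq, mul_one]
        rcases eq_or_ne i 0 with rfl | hi
        · rfl
        · exact (h1 i 0 hi).2.2
      · rw [Matrix.one_apply_ne hij, mul_zero, (h1 i j hij).1]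
    rw [h3, smul_mulVec, one_mulVec]
    congr 1
    rw [Matrix.smul_apply, Matrix.one_apply_eq, smul_eq_mul, mul_one]
  have hc : gm A 0 0 ≠ 0 := by
    intro h0
    have h3 := gm_inv_mulVec A (Pi.single 0 1)
    rw [h2, h0, zero_smul, mulVec_zero] at h3
    have := congrFun h3 0
    rw [Pi.single_eq_same] at this
    exact zero_ne_one this
  ext x
  obtain ⟨g, rfl⟩ := pr_surjective x
  rw [toAut_pr, MulAut.one_apply]
  congr 1
  apply ext_act
  intro y
  have h4 := act_semiConj A ρ g ((gm A 0 0)⁻¹ • y)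
  have h5 : ∀ x : Fin 6 → F4, (fun i => ρ (x i)) = x := fun x => funext fun i => hρ _
  rw [h5, h5, h2, h2, smul_smul, mul_inv_cancel₀ hc, one_smul, act_smul, smul_smul, mul_inv_cancel₀ hc,
    one_smul] at h4
  exact h4

/-! ### the graph case -/

/-- in at most five orthonormal vectors there is another one -/
theorem exists_perp {ι : Type} [Fintype ι] [DecidableEq ι] (hι : Fintype.card ι < 6) {b : ι → (Fin 6 → F4)}
    (hb : ∀ i j, hermForm 6 F4 2 (b i) (b j) = if i = j then 1 else 0) :
    ∃ u, hermForm 6 F4 2 u u = 1 ∧ ∀ i, hermForm 6 F4 2 u (b i) = 0 := by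
  have h1 : LinearMap.ker (LinearMap.pi fun i => hL 6 2 (b i) : (Fin 6 → F4) →ₗ[F4] (ι → F4)) ≠ ⊥ := by
    apply LinearMap.ker_ne_bot_of_finrank_lt
    rw [Module.finrank_fintype_fun_eq_card, Module.finrank_fintype_fun_eq_card, Fintype.card_fin]
    exact hι
  have h2 : ∀ u, u ∈ hermPerp 2 (Set.range b) ↔ ∀ i, hermForm 6 F4 2 u (b i) = 0 := by
    intro u
    rw [mem_hermPerp]
    constructor
    · intro h i
      exact h _ ⟨i, rfl⟩
    · rintro h _ ⟨i, rfl⟩
      exact h i
  obtain ⟨u, hu, huu⟩ := exists_norm_one_vector hF (hermPerp 2 (Set.range b)) (by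
    intro u hu h
    refine herm_nondeg hF fun x => ?_
    have h3 : x - ∑ i, hermForm 6 F4 2 x (b i) • b i ∈ hermPerp 2 (Set.range b) := by
      rw [h2]
      intro i
      rw [herm_sub_left]
      have : hermForm 6 F4 2 (∑ j, hermForm 6 F4 2 x (b j) • b j) (b i) = hermForm 6 F4 2 x (b i) := by
        rw [herm_sum_left]
        simp only [herm_smul_left, hb]
        simp
      rw [this, sub_self]
    have h4 := h _ h3
    rw [herm_sub_right hF, herm_sum_right hF] at h4
    simp only [herm_smul_right, (h2 u).1 hu, mul_zero, Finset.sum_const_zero, sub_zero] at h4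
    exact h4) (by
    intro hbot
    obtain ⟨y, hy, hy0⟩ := (Submodule.ne_bot_iff _).1 h1
    apply hy0
    have : y ∈ hermPerp 2 (Set.range b) := by
      rw [h2]
      intro i
      exact congrFun (LinearMap.mem_ker.1 hy) i
    rw [hbot] at this
    exact this)
  exact ⟨u, huu, (h2 u).1 hu⟩

section graph

variable {A : Cfsg.GU 6 F4 2} {ρ : F4 ≃+* F4} (hρ : ∀ a, ρ a = a ^ 2)
  (h : ∀ f, hermForm 6 F4 2 f f = 0 → hermForm 6 F4 2 f (Bm A ρ f) = 0)

include hρ h

theorem sym_mat : (∀ i, gm A i i = 0) ∧ ∀ i j, gm A i j = gm A j i := by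
  have h1 : ∀ i j : Fin 6, i ≠ j → gm A i i = 0 ∧ gm A i j = gm A j i ∧ gm A j j = 0 := by
    intro i j hij
    apply semi_case
    intro l hl
    have := h _ (eij_iso hij hl)
    rwa [herm_eij, hρ] at this
  constructor
  · intro i
    rcases eq_or_ne i 0 with rfl | hi
    · exact (h1 0 1 (by decide)).1
    · exact (h1 i 0 hi).1
  · intro i j
    rcases eq_or_ne i j with rfl | hij
    · rfl
    · exact (h1 i j hij).2.1

theorem s_eq (x y : Fin 6 → F4) : hermForm 6 F4 2 x (Bm A ρ y) = ∑ i, ∑ j, x i * (gm A i j ^ 2 * y j) := by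
  rw [hermForm]
  refine Finset.sum_congr rfl fun i _ => ?_
  rw [← Finset.mul_sum]
  congr 1
  rw [Bm, mulVec, dotProduct, sum_pow_q hF]
  refine Finset.sum_congr rfl fun j _ => ?_
  rw [hρ]
  have : ∀ a b : F4, (a * b ^ 2) ^ 2 = a ^ 2 * b := by decide
  exact this _ _

theorem s_symm (x y : Fin 6 → F4) : hermForm 6 F4 2 x (Bm A ρ y) = hermForm 6 F4 2 y (Bm A ρ x) := by
  rw [s_eq hρ h, s_eq hρ h, Finset.sum_comm]
  refine Finset.sum_congr rfl fun i _ => Finset.sum_congr rfl fun j _ => ?_
  rw [(sym_mat hρ h).2 i j]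
  ring

theorem s_self (x : Fin 6 → F4) : hermForm 6 F4 2 x (Bm A ρ x) = 0 := by
  have h2 : ∀ a : F4, a + a = 0 := by decide
  rw [s_eq hρ h]
  simp only [Fin.sum_univ_six, (sym_mat hρ h).1]
  rw [(sym_mat hρ h).2 1 0, (sym_mat hρ h).2 2 0, (sym_mat hρ h).2 3 0, (sym_mat hρ h).2 4 0, (sym_mat hρ h).2 5 0,
    (sym_mat hρ h).2 2 1, (sym_mat hρ h).2 3 1, (sym_mat hρ h).2 4 1, (sym_mat hρ h).2 5 1,
    (sym_mat hρ h).2 3 2, (sym_mat hρ h).2 4 2, (sym_mat hρ h).2 5 2,
    (sym_mat hρ h).2 4 3, (sym_mat hρ h).2 5 3, (sym_mat hρ h).2 5 4]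
  have h3 : (2 : F4) = 0 := h2 1
  ring_nf
  rw [h3]
  ring

theorem BB (x : Fin 6 → F4) : Bm A ρ (Bm A ρ x) = x := by
  have h1 : ∀ y, hermForm 6 F4 2 (Bm A ρ (Bm A ρ x) - x) y = 0 := by
    intro y
    have h2 : hermForm 6 F4 2 (Bm A ρ x) (Bm A ρ y) = (hermForm 6 F4 2 x y) ^ 2 := by
      rw [Bm, Bm, herm_semi, hρ]
    rw [s_symm hρ h, ← herm_swap hF x y] at h2
    refine herm_eq_zero_swap hF ?_
    rw [herm_sub_right hF, h2, sub_self]
  exact sub_eq_zero.1 (herm_nondeg hF h1)

/-- an orthonormal system adapted to the involution -/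
theorem exists_sys (m : ℕ) (hm : m ≤ 3) : ∃ c : Fin m → (Fin 6 → F4),
    (∀ i j, hermForm 6 F4 2 (c i) (c j) = if i = j then 1 else 0) ∧ ∀ i j, hermForm 6 F4 2 (c i) (Bm A ρ (c j)) = 0 := by
  induction m with
  | zero => exact ⟨fun i => i.elim0, fun i => i.elim0, fun i => i.elim0⟩
  | succ m ih =>
    obtain ⟨c, hc1, hc2⟩ := ih (by omega)
    have hc2' : ∀ i j, hermForm 6 F4 2 (Bm A ρ (c i)) (c j) = 0 := fun i j => herm_eq_zero_swap hF (hc2 j i)
    have hc3 : ∀ i j, hermForm 6 F4 2 (Bm A ρ (c i)) (Bm A ρ (c j)) = if i = j then 1 else 0 := by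
      intro i j
      rw [Bm, Bm, herm_semi, hc1]
      split_ifs
      · exact map_one ρ
      · exact map_zero ρ
    obtain ⟨u, hu, hub⟩ := exists_perp (ι := Fin m ⊕ Fin m) (b := Sum.elim c fun i => Bm A ρ (c i))
      (by rw [Fintype.card_sum, Fintype.card_fin]; omega) (by
        rintro (i | i) (j | j)
        · simp [hc1]
        · simp [hc2]
        · simp [hc2']
        · simp [hc3])
    have h1 : ∀ i, hermForm 6 F4 2 u (c i) = 0 := fun i => hub (Sum.inl i)
    have h2 : ∀ i, hermForm 6 F4 2 u (Bm A ρ (c i)) = 0 := fun i => hub (Sum.inr i)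
    have h3 : ∀ i, hermForm 6 F4 2 (c i) u = 0 := fun i => herm_eq_zero_swap hF (h1 i)
    have h4 : ∀ i, hermForm 6 F4 2 (c i) (Bm A ρ u) = 0 := fun i => by rw [s_symm hρ h, h2]
    refine ⟨Fin.cons u c, fun i j => ?_, fun i j => ?_⟩
    · refine Fin.cases ?_ (fun i => ?_) i <;> refine Fin.cases ?_ (fun j => ?_) j
      · rw [Fin.cons_zero, if_pos rfl, hu]
      · rw [Fin.cons_zero, Fin.cons_succ, h1, if_neg (Fin.succ_ne_zero j).symm]
      · rw [Fin.cons_zero, Fin.cons_succ, h3, if_neg (Fin.succ_ne_zero i)]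
      · rw [Fin.cons_succ, Fin.cons_succ, hc1]
        simp only [Fin.succ_inj]
    · refine Fin.cases ?_ (fun i => ?_) i <;> refine Fin.cases ?_ (fun j => ?_) j
      · rw [Fin.cons_zero]; exact s_self hρ h u
      · rw [Fin.cons_zero, Fin.cons_succ, h2]
      · rw [Fin.cons_zero, Fin.cons_succ, h4]
      · rw [Fin.cons_succ, Fin.cons_succ, hc2]

/-- `A` is conjugate to `J` -/
theorem exists_C : ∃ C : Cfsg.GU 6 F4 2, ∀ y, Bm A ρ (gm C *ᵥ y) = gm C *ᵥ (Jm *ᵥ fun i => ρ (y i)) := by
  obtain ⟨c, hc1, hc2⟩ := exists_sys hρ h 3 le_rfl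
  have hc2' : ∀ i j, hermForm 6 F4 2 (Bm A ρ (c i)) (c j) = 0 := fun i j => herm_eq_zero_swap hF (hc2 j i)
  have hc3 : ∀ i j, hermForm 6 F4 2 (Bm A ρ (c i)) (Bm A ρ (c j)) = if i = j then 1 else 0 := by
    intro i j
    rw [Bm, Bm, herm_semi, hc1]
    split_ifs
    · exact map_one ρ
    · exact map_zero ρ
  set b : Fin 6 → (Fin 6 → F4) := ![c 0, Bm A ρ (c 0), c 1, Bm A ρ (c 1), c 2, Bm A ρ (c 2)] with hb
  have hbo : ∀ i j, hermForm 6 F4 2 (b i) (b j) = if i = j then 1 else 0 := by
    intro i j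
    fin_cases i <;> fin_cases j <;> simp [hb, hc1, hc2, hc2', hc3]
  obtain ⟨g, hg, hgb⟩ := exists_GU_of_orthonormal hF hbo
  refine ⟨⟨g, hg⟩, fun y => ?_⟩
  have h1 : ∀ y, gm (⟨g, hg⟩ : Cfsg.GU 6 F4 2) *ᵥ y = ∑ i, y i • b i := hgb
  have hadd : ∀ x y, Bm A ρ (x + y) = Bm A ρ x + Bm A ρ y := by
    intro x y
    rw [Bm, Bm, Bm, ← mulVec_add]
    congr 1
    funext i
    exact map_add ρ _ _
  have hsm : ∀ (t : F4) x, Bm A ρ (t • x) = ρ t • Bm A ρ x := by
    intro t x
    rw [Bm, Bm, ← mulVec_smul]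
    congr 1
    funext i
    exact map_mul ρ _ _
  rw [h1, h1, Fin.sum_univ_six, Fin.sum_univ_six, hadd, hadd, hadd, hadd, hadd, hsm, hsm, hsm, hsm, hsm, hsm]
  have b0 : b 0 = c 0 := rfl
  have b1 : b 1 = Bm A ρ (c 0) := rfl
  have b2 : b 2 = c 1 := rfl
  have b3 : b 3 = Bm A ρ (c 1) := rfl
  have b4 : b 4 = c 2 := rfl
  have b5 : b 5 = Bm A ρ (c 2) := rfl
  rw [b0, b1, b2, b3, b4, b5, BB hρ h, BB hρ h, BB hρ h]
  have J : ∀ x : Fin 6 → F4, Jm *ᵥ x = ![x 1, x 0, x 3, x 2, x 5, x 4] := by
    intro x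
    funext i
    rw [mv6]
    fin_cases i
    · change 0 * x 0 + 1 * x 1 + 0 * x 2 + 0 * x 3 + 0 * x 4 + 0 * x 5 = x 1
      ring
    · change 1 * x 0 + 0 * x 1 + 0 * x 2 + 0 * x 3 + 0 * x 4 + 0 * x 5 = x 0
      ring
    · change 0 * x 0 + 0 * x 1 + 0 * x 2 + 1 * x 3 + 0 * x 4 + 0 * x 5 = x 3
      ring
    · change 0 * x 0 + 0 * x 1 + 1 * x 2 + 0 * x 3 + 0 * x 4 + 0 * x 5 = x 2
      ring
    · change 0 * x 0 + 0 * x 1 + 0 * x 2 + 0 * x 3 + 0 * x 4 + 1 * x 5 = x 5
      ring
    · change 0 * x 0 + 0 * x 1 + 0 * x 2 + 0 * x 3 + 1 * x 4 + 0 * x 5 = x 4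
      ring
  rw [J]
  change ρ (y 0) • Bm A ρ (c 0) + ρ (y 1) • c 0 + ρ (y 2) • Bm A ρ (c 1) + ρ (y 3) • c 1 + ρ (y 4) • Bm A ρ (c 2) +
    ρ (y 5) • c 2 = ρ (y 1) • c 0 + ρ (y 0) • Bm A ρ (c 0) + ρ (y 3) • c 1 + ρ (y 2) • Bm A ρ (c 1) + ρ (y 5) • c 2 +
    ρ (y 4) • Bm A ρ (c 2)
  abel

/-- the second case -/
theorem case_two : ∃ x : PSU 6 F4 2, ∀ K : Subgroup (PSU 6 F4 2), x ∈ K → (∀ k ∈ K, toAut A ρ k ∈ K) → K = ⊤ := by
  obtain ⟨C, hC⟩ := exists_C hρ h
  set γ := toAut C (RingEquiv.refl F4) with hγ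
  have key : ∀ k, toAut A ρ (γ k) = γ (toAut J0 ρ k) := by
    intro k
    obtain ⟨g, rfl⟩ := pr_surjective k
    rw [hγ, toAut_pr, toAut_pr, toAut_pr, toAut_pr]
    congr 1
    apply ext_act
    intro y
    -- `y = A ρ(C x)`
    obtain ⟨x, rfl⟩ : ∃ x : Fin 6 → F4, y = gm A *ᵥ fun i => ρ ((gm C *ᵥ x) i) := by
      refine ⟨gm C⁻¹ *ᵥ (fun i => ρ.symm ((gm A⁻¹ *ᵥ y) i)), ?_⟩
      rw [gm_mulVec_inv]
      have : (fun i => ρ ((fun i => ρ.symm ((gm A⁻¹ *ᵥ y) i)) i)) = gm A⁻¹ *ᵥ y := by
        funext i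
        exact ρ.apply_symm_apply _
      rw [this, gm_mulVec_inv]
    have e1 := act_semiConj C (RingEquiv.refl F4) g x
    have e2 := act_semiConj A ρ (semiConj C (RingEquiv.refl F4) g) (gm C *ᵥ x)
    have e3 := act_semiConj J0 ρ g x
    have e4 := act_semiConj C (RingEquiv.refl F4) (semiConj J0 ρ g) (gm J0 *ᵥ fun i => ρ (x i))
    have e5 := hC x
    have e6 := hC (act g x)
    rw [e2]
    change act (semiConj C (RingEquiv.refl F4) g) (gm C *ᵥ x) = gm C *ᵥ act g x at e1
    change act (semiConj C (RingEquiv.refl F4) (semiConj J0 ρ g)) (gm C *ᵥ (gm J0 *ᵥ fun i => ρ (x i))) =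
      gm C *ᵥ act (semiConj J0 ρ g) (gm J0 *ᵥ fun i => ρ (x i)) at e4
    rw [e3] at e4
    rw [e1]
    change Bm A ρ (gm C *ᵥ act g x) = act _ (Bm A ρ (gm C *ᵥ x))
    rw [e5, e6]
    exact e4.symm
  refine ⟨γ (pr 6 F4 2 x1), fun K hx hK => ?_⟩
  have h1 : K.comap γ.toMonoidHom = ⊤ := by
    refine gen2 hρ hx fun k hk => ?_
    change γ (toAut J0 ρ k) ∈ K
    rw [← key]
    exact hK _ hk
  rw [eq_top_iff]
  intro y _
  have h2 : γ.symm y ∈ K.comap γ.toMonoidHom := by rw [h1]; trivial
  have h3 : γ (γ.symm y) ∈ K := h2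
  rwa [MulEquiv.apply_symm_apply] at h3

end graph

/-- **`PSU_6(2)` over `F₄`** -/
theorem spr_six_F4 : Spr (PSU 6 F4 2) := by
  intro α hα
  obtain ⟨A, ρ, rfl⟩ := Cfsg.Agent.ClassicalGeometry.PSUAutMain.exists_toAut hF (by norm_num)
    (fun h => by omega) α
  by_cases hc : ∃ f, hermForm 6 F4 2 f f = 0 ∧ hermForm 6 F4 2 f (Bm A ρ f) ≠ 0
  · obtain ⟨f, hf, hfB⟩ := hc
    exact case_one hf hfB
  · push Not at hc
    rcases rho_cases ρ with hρ | hρ
    · exact absurd (one_of_lin hρ hc) hα
    · exact case_two hρ hc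

variable {F : Type*} [Field F] [Fintype F]

theorem spr_congr {L L' : Type*} [Group L] [Group L'] (e : L ≃* L') (h : Spr L) : Spr L' := by
  intro a ha
  obtain ⟨x, hx⟩ := h ((e.trans a).trans e.symm) (by
    intro h1
    apply ha
    ext y
    have h2 := congrArg (fun b : MulAut L => b (e.symm y)) h1
    simp only [MulEquiv.trans_apply, MulEquiv.apply_symm_apply, MulAut.one_apply] at h2
    have h3 := congrArg e h2
    simpa using h3)
  refine ⟨e x, fun K hK hKa => ?_⟩
  have h1 := hx (K.comap e.toMonoidHom) hK (by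
    intro k hk
    change e (e.symm (a (e k))) ∈ K
    rw [MulEquiv.apply_symm_apply]
    exact hKa _ hk)
  rw [eq_top_iff]
  intro y _
  have h2 : e.symm y ∈ K.comap e.toMonoidHom := by rw [h1]; trivial
  have h3 : e (e.symm y) ∈ K := h2
  rwa [MulEquiv.apply_symm_apply] at h3

/-- **`PSU_6(2)`** -/
theorem spr_psu_six_two (hF4 : Fintype.card F = 2 ^ 2) : Spr (PSU 6 F 2) := by
  obtain ⟨e⟩ := Cfsg.Agent.SporadicStructure.PsuMatch.psu_iso_of_card (F := F4) (K := F) (n := 6) (q := 2)
    (by rw [hF4]; rfl)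
  exact spr_congr e spr_six_F4

end Cfsg.Agent.H62.Spr.U62
end

-- part: H62/Spr/PsuSix
section
/-!
# S3938 (3/2-generation): `PSU_6(q)`, all `q` (helper62, task 4834)

`spr_psu_six` : hypothesis `R5803 F q` (the text of S5803) for `q ≥ 3`; nothing for `q = 2`.
-/

set_option autoImplicit false
set_option linter.unusedSectionVars false

namespace Cfsg.Agent.H62.Spr

open Cfsg Cfsg.Agent.H424.Spr Cfsg.Agent.H680.Cov.SU6 Cfsg.Agent.ClassicalGeometry.UnitAutBasic
  Cfsg.Agent.LieClassical.HermBasic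

variable {F : Type} [Field F] [Fintype F] {q : ℕ}

theorem psu_six_na (hF : Fintype.card F = q ^ 2) : ∃ x y : PSU 6 F q, x * y ≠ y * x := by
  obtain ⟨u, u', -, -, -, -, -, hu, hu', huu⟩ := LieClassical.HermGen.exists_hyp_pair (n := 6) hF (i := 0) (j := 1) (by decide)
  refine ⟨tau hF u, tau hF u', fun h => ?_⟩
  have hu0 : u' ≠ 0 := by
    rintro rfl
    rw [herm_zero_right hF] at huu
    exact zero_ne_one huu
  have h1 := herm_eq_zero_swap hF ((tau_comm_iff hF (by norm_num) hu hu' hu0).1 h)
  rw [huu] at h1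
  exact one_ne_zero h1

theorem spr_psu_six (hF : Fintype.card F = q ^ 2) (hR : 3 ≤ q → R5803 F q) : Spr (PSU 6 F q) := by
  have hfin : Finite (PSU 6 F q) := Quotient.finite _
  have hs : IsSimpleGroup (PSU 6 F q) := Cfsg.Agent.S0283.result hF 6 (by norm_num) (by omega)
  have h2 : 2 ≤ q := by
    by_contra hcon
    have h1 := Fintype.one_lt_card (α := F)
    rw [hF] at h1
    interval_cases q <;> omega
  rcases h2.eq_or_lt with rfl | h3
  · exact U62.spr_psu_six_two hF
  · exact spr_psu_six_of hF h3 (hR h3) (psu_six_na hF)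

end Cfsg.Agent.H62.Spr
end

private theorem dce_a5a607be22a4 : _root_.True := by
  try have : _root_.True := by simp only [_root_.Cfsg.Agent.H62.Spr.U62.eij.eq_1]
  try have : _root_.True := by simp only [_root_.Cfsg.Agent.H62.Spr.U62.Bm.eq_1]
  exact _root_.True.intro
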